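import Cfsg.Agent.H73.PairGen.Conj
import Cfsg.Agent.S0205

/-!
# Groups generated by pairwise isomorphic pairs of subgroups of order `p`
-/

set_option linter.style.haveILetI false
set_option linter.unusedSectionVars false

namespace Cfsg.Agent.H73.PairGen

open scoped commutatorElement

universe u

variable {G : Type u} [Group G]

/-- The hypothesis: `D` is a conjugation invariant set of subgroups of order `p` generating `G`,
and all pairs generate isomorphic groups of odd order. -/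
structure Hyp (p : ℕ) (D : Set (Subgroup G)) : Prop where
  prime : p.Prime
  ne_two : p ≠ 2
  card : ∀ A ∈ D, Nat.card A = p
  conj : ∀ A ∈ D, ∀ g : G, cj g A ∈ D
  top : sSup D = ⊤
  odd : ∀ A ∈ D, ∀ B ∈ D, A ≠ B → Odd (Nat.card ↥(A ⊔ B))
  iso : ∀ A ∈ D, ∀ B ∈ D, ∀ C ∈ D, ∀ E ∈ D, A ≠ B → C ≠ E →
    Nonempty (↥(A ⊔ B) ≃* ↥(C ⊔ E))
  nonab : ¬ IsMulCommutative G

/-- `H` is generated by the members of `D` it contains. -/
def Gen (D : Set (Subgroup G)) (H : Subgroup G) : Prop := sSup {B | B ∈ D ∧ B ≤ H} = H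

/-- All pairs have abelian derived groups. -/
def AbPairs (D : Set (Subgroup G)) : Prop :=
  ∀ A ∈ D, ∀ B ∈ D, A ≠ B → ∀ u ∈ ⁅A ⊔ B, A ⊔ B⁆, ∀ v ∈ ⁅A ⊔ B, A ⊔ B⁆, Commute u v

theorem Gen.le_of {D : Set (Subgroup G)} {H K : Subgroup G} (hH : Gen D H)
    (h : ∀ B ∈ D, B ≤ H → B ≤ K) : H ≤ K :=
  le_of_eq_of_le hH.symm (sSup_le fun B hB => h B hB.1 hB.2)

theorem gen_sSup (D : Set (Subgroup G)) {E : Set (Subgroup G)} (hE : E ⊆ D) : Gen D (sSup E) :=
  le_antisymm (sSup_le fun _ hB => hB.2) (sSup_le fun B hB => le_sSup ⟨hE hB, le_sSup hB⟩)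

theorem gen_pair {D : Set (Subgroup G)} {A B : Subgroup G} (hA : A ∈ D) (hB : B ∈ D) :
    Gen D (A ⊔ B) := by
  rw [← sSup_pair]
  exact gen_sSup D (Set.insert_subset hA (Set.singleton_subset_iff.2 hB))

theorem map_subtype_commutator (H : Subgroup G) :
    (commutator H).map H.subtype = ⁅H, H⁆ := by
  rw [commutator_def, Subgroup.map_commutator, ← MonoidHom.range_eq_map, Subgroup.range_subtype]

theorem commutator_self_le (H : Subgroup G) : ⁅H, H⁆ ≤ H := by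
  rw [← map_subtype_commutator]; exact Subgroup.map_subtype_le _

theorem comm_of_commutator (H : Subgroup G) (h : ⁅H, H⁆ = ⊥) {a b : G} (ha : a ∈ H)
    (hb : b ∈ H) : Commute a b :=
  commutatorElement_eq_one_iff_commute.1
    (Subgroup.mem_bot.1 (h ▸ Subgroup.commutator_mem_commutator ha hb))

theorem commute_map_equiv {H K : Subgroup G} (e : ↥H ≃* ↥K)
    (h : ∀ a ∈ H, ∀ b ∈ H, Commute a b) : ∀ a ∈ K, ∀ b ∈ K, Commute a b := by
  intro a ha b hb
  have h1 : Commute (e.symm ⟨a, ha⟩) (e.symm ⟨b, hb⟩) := Subtype.ext (h _ (e.symm _).2 _ (e.symm _).2).eq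
  have h2 := h1.map e.toMonoidHom
  simp only [MulEquiv.coe_toMonoidHom, MulEquiv.apply_symm_apply] at h2
  exact congrArg Subtype.val h2.eq

variable {p : ℕ} {D : Set (Subgroup G)}

namespace Hyp

variable (hyp : Hyp p D)
include hyp

theorem ne_bot {A : Subgroup G} (hA : A ∈ D) : A ≠ ⊥ := fun h => by
  have := hyp.card A hA
  rw [h, Subgroup.card_bot] at this
  exact hyp.prime.one_lt.ne this

theorem zpowers_eq {A : Subgroup G} (hA : A ∈ D) {a : G} (ha : a ∈ A) (ha1 : a ≠ 1) :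
    Subgroup.zpowers a = A := by
  haveI := Fact.mk hyp.prime
  refine le_antisymm (Subgroup.zpowers_le.2 ha) fun b hb => ?_
  obtain ⟨k, hk⟩ := mem_zpowers_of_prime_card (G := A) (hyp.card A hA) (g := ⟨a, ha⟩)
    (g' := ⟨b, hb⟩) (fun h => ha1 (congrArg Subtype.val h))
  exact ⟨k, by simpa using congrArg Subtype.val hk⟩

theorem exists_gen {A : Subgroup G} (hA : A ∈ D) : ∃ x ∈ A, x ≠ 1 ∧ Subgroup.zpowers x = A := by
  obtain ⟨x, hx, hx1⟩ := A.bot_or_exists_ne_one.resolve_left (hyp.ne_bot hA)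
  exact ⟨x, hx, hx1, hyp.zpowers_eq hA hx hx1⟩

theorem comm_in {A : Subgroup G} (hA : A ∈ D) {a b : G} (ha : a ∈ A) (hb : b ∈ A) :
    Commute a b := by
  obtain ⟨x, -, -, rfl⟩ := hyp.exists_gen hA
  obtain ⟨i, rfl⟩ := Subgroup.mem_zpowers_iff.1 ha
  obtain ⟨j, rfl⟩ := Subgroup.mem_zpowers_iff.1 hb
  exact (Commute.refl x).zpow_zpow i j

theorem pow_p {A : Subgroup G} (hA : A ∈ D) {a : G} (ha : a ∈ A) : a ^ p = 1 := by
  have := pow_card_eq_one' (G := A) (x := ⟨a, ha⟩)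
  rw [hyp.card A hA] at this
  simpa using congrArg Subtype.val this

theorem orderOf_eq {A : Subgroup G} (hA : A ∈ D) {a : G} (ha : a ∈ A) (ha1 : a ≠ 1) :
    orderOf a = p := by
  haveI := Fact.mk hyp.prime
  exact orderOf_eq_prime (hyp.pow_p hA ha) ha1

theorem le_of_not_disjoint {A H : Subgroup G} (hA : A ∈ D) {a : G} (ha : a ∈ A) (ha1 : a ≠ 1)
    (haH : a ∈ H) : A ≤ H := hyp.zpowers_eq hA ha ha1 ▸ Subgroup.zpowers_le.2 haH

theorem eq_of_mem {A B : Subgroup G} (hA : A ∈ D) (hB : B ∈ D) {a : G} (ha : a ∈ A) (ha1 : a ≠ 1)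
    (haB : a ∈ B) : A = B :=
  (hyp.zpowers_eq hA ha ha1).symm.trans (hyp.zpowers_eq hB haB ha1)

theorem eq_of_le {A B : Subgroup G} (hA : A ∈ D) (hB : B ∈ D) (h : A ≤ B) : A = B := by
  obtain ⟨x, hx, hx1, -⟩ := hyp.exists_gen hA
  exact hyp.eq_of_mem hA hB hx hx1 (h hx)

theorem exists_noncomm :
    ∃ A ∈ D, ∃ B ∈ D, A ≠ B ∧ ¬ ∀ a ∈ A ⊔ B, ∀ b ∈ A ⊔ B, Commute a b := by
  by_contra hne
  have h : ∀ A ∈ D, ∀ B ∈ D, ∀ a ∈ A, ∀ b ∈ B, Commute a b := by
    intro A hA B hB a ha b hb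
    rcases eq_or_ne A B with rfl | hAB
    · exact hyp.comm_in hA ha hb
    · by_contra hc
      exact hne ⟨A, hA, B, hB, hAB, fun h => hc (h a (Subgroup.mem_sup_left ha) b
        (Subgroup.mem_sup_right hb))⟩
  have hcen : ∀ A ∈ D, A ≤ Subgroup.center G := by
    intro A hA a ha
    refine Subgroup.mem_center_iff.2 fun g => ?_
    have hg : g ∈ Subgroup.centralizer ({a} : Set G) := by
      have htop : sSup D ≤ Subgroup.centralizer ({a} : Set G) := sSup_le fun B hB b hb =>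
        Subgroup.mem_centralizer_singleton_iff.2 (h A hA B hB a ha b hb).eq.symm
      exact htop (hyp.top ▸ Subgroup.mem_top g)
    exact Subgroup.mem_centralizer_singleton_iff.1 hg
  have htop : Subgroup.center G = ⊤ := eq_top_iff.2 (hyp.top ▸ sSup_le hcen)
  exact hyp.nonab ⟨⟨fun a b =>
    Subgroup.mem_center_iff.1 (htop ▸ Subgroup.mem_top b : b ∈ Subgroup.center G) a⟩⟩

/-- Two distinct members do not commute. -/
theorem not_commute {A B : Subgroup G} (hA : A ∈ D) (hB : B ∈ D) (hAB : A ≠ B) {a b : G}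
    (ha : a ∈ A) (ha1 : a ≠ 1) (hb : b ∈ B) (hb1 : b ≠ 1) : ¬ Commute a b := by
  intro hc
  have hca : ∀ u ∈ A, ∀ v ∈ B, Commute u v := by
    intro u hu v hv
    rw [← hyp.zpowers_eq hA ha ha1] at hu
    rw [← hyp.zpowers_eq hB hb hb1] at hv
    obtain ⟨i, rfl⟩ := Subgroup.mem_zpowers_iff.1 hu
    obtain ⟨j, rfl⟩ := Subgroup.mem_zpowers_iff.1 hv
    exact hc.zpow_zpow i j
  have h1 : A ⊔ B ≤ Subgroup.centralizer ((A ⊔ B : Subgroup G) : Set G) := by
    have hA' : A ⊔ B ≤ Subgroup.centralizer (A : Set G) := sup_le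
      (fun u hu => Subgroup.mem_centralizer_iff.2 fun v hv => (hyp.comm_in hA hv hu).eq)
      (fun u hu => Subgroup.mem_centralizer_iff.2 fun v hv => (hca v hv u hu).eq)
    have hB' : A ⊔ B ≤ Subgroup.centralizer (B : Set G) := sup_le
      (fun u hu => Subgroup.mem_centralizer_iff.2 fun v hv => (hca u hu v hv).eq.symm)
      (fun u hu => Subgroup.mem_centralizer_iff.2 fun v hv => (hyp.comm_in hB hv hu).eq)
    exact sup_le (Subgroup.le_centralizer_iff.2 hA') (Subgroup.le_centralizer_iff.2 hB')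
  obtain ⟨C, hC, E, hE, hCE, hne⟩ := hyp.exists_noncomm
  obtain ⟨e⟩ := hyp.iso A hA B hB C hC E hE hAB hCE
  exact hne (commute_map_equiv e fun u hu v hv =>
    (Subgroup.mem_centralizer_iff.1 (h1 hv) u hu))

theorem cj_ne [Finite G] {A B : Subgroup G} (hA : A ∈ D) (hB : B ∈ D) (hAB : A ≠ B) {a : G}
    (ha : a ∈ A) (ha1 : a ≠ 1) : cj a B ≠ B := by
  intro h
  haveI := Fact.mk hyp.prime
  obtain ⟨b, hb, hb1, -⟩ := hyp.exists_gen hB
  exact hyp.not_commute hA hB hAB ha ha1 hb hb1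
    (commute_of_normalize (hyp.card B hB) (hyp.pow_p hA ha) h hb)

/-- Members inside a common subgroup are conjugate in it. -/
theorem exists_conj_mem [Finite G] {A B H : Subgroup G} (hA : A ∈ D) (hB : B ∈ D) (hAH : A ≤ H)
    (hBH : B ≤ H) : ∃ h ∈ H, cj h A = B := by
  classical
  haveI := Fact.mk hyp.prime
  set S : Set (Subgroup G) := {C | ∃ h ∈ H, cj h B = C} with hS
  have hSD : ∀ C ∈ S, C ∈ D := fun C ⟨h, _, hC⟩ => hC ▸ hyp.conj B hB h
  have key : ∀ E ∈ D, E ≤ H → Nat.card S ≡ if E ∈ S then 1 else 0 [MOD p] := by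
    intro E hE hEH
    letI : MulAction E S :=
      { smul := fun a C => ⟨cj (a : G) C.1, by
          obtain ⟨h, hh, hC⟩ := C.2
          exact ⟨(a : G) * h, mul_mem (hEH a.2) hh, by rw [← hC, cj_cj]⟩⟩
        one_smul := fun C => Subtype.ext (cj_one _)
        mul_smul := fun a b C => Subtype.ext (cj_cj _ _ _).symm }
    have hp : IsPGroup p E := IsPGroup.of_card (n := 1) (by rw [pow_one, hyp.card E hE])
    refine (hp.card_modEq_card_fixedPoints S).trans (congrArg (· % p) ?_)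
    split_ifs with hES
    · rw [Nat.card_eq_one_iff_unique]
      have huniq : ∀ C : S, C ∈ MulAction.fixedPoints E S → C.1 = E := by
        intro C hC
        by_contra hne
        obtain ⟨x, hx, hx1, -⟩ := hyp.exists_gen hE
        exact hyp.cj_ne hE (hSD _ C.2) (Ne.symm hne) hx hx1
          (congrArg Subtype.val (hC ⟨x, hx⟩))
      refine ⟨⟨fun a b => Subtype.ext (Subtype.ext ((huniq _ a.2).trans (huniq _ b.2).symm))⟩,
        ⟨⟨⟨E, hES⟩, fun a => Subtype.ext (cj_of_mem a.2)⟩⟩⟩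
    · rw [Nat.card_eq_zero]
      refine Or.inl ⟨fun ⟨C, hC⟩ => ?_⟩
      obtain ⟨x, hx, hx1, -⟩ := hyp.exists_gen hE
      refine hyp.cj_ne hE (hSD _ C.2) (fun h => hES (h ▸ C.2)) hx hx1
        (congrArg Subtype.val (hC ⟨x, hx⟩))
  by_contra hne
  have hA' : A ∉ S := fun ⟨h, hh, hC⟩ => hne ⟨h⁻¹, inv_mem hh, by rw [← hC, cj_inv_cj]⟩
  have hB' : B ∈ S := ⟨1, one_mem _, cj_one B⟩
  have h1 := key A hA hAH
  have h2 := key B hB hBH
  rw [if_neg hA'] at h1
  rw [if_pos hB'] at h2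
  have h3 : 0 ≡ 1 [MOD p] := h1.symm.trans h2
  rw [Nat.ModEq, Nat.zero_mod, Nat.mod_eq_of_lt hyp.prime.one_lt] at h3
  exact zero_ne_one h3

theorem line [Finite G] {A B C E : Subgroup G} (hA : A ∈ D) (hB : B ∈ D) (hC : C ∈ D)
    (hE : E ∈ D) (hAB : A ≠ B) (hCE : C ≠ E) (hC' : C ≤ A ⊔ B) (hE' : E ≤ A ⊔ B) :
    C ⊔ E = A ⊔ B := by
  obtain ⟨e⟩ := hyp.iso A hA B hB C hC E hE hAB hCE
  exact Subgroup.eq_of_le_of_card_ge (sup_le hC' hE') (Nat.card_congr e.toEquiv).le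

/-- The number of members in a subgroup of odd order is odd. -/
theorem odd_ncard_le [Finite G] {A H : Subgroup G} (hA : A ∈ D) (hAH : A ≤ H)
    (hH : Odd (Nat.card H)) : Odd {B | B ∈ D ∧ B ≤ H}.ncard := by
  letI : MulAction H (Subgroup G) :=
    { smul := fun h C => cj (h : G) C
      one_smul := cj_one
      mul_smul := fun a b C => (cj_cj _ _ _).symm }
  have horb : MulAction.orbit H A = {B | B ∈ D ∧ B ≤ H} := by
    ext B
    constructor
    · rintro ⟨h, rfl⟩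
      exact ⟨hyp.conj A hA h, cj_le_of_mem hAH h.2⟩
    · rintro ⟨hB, hBH⟩
      obtain ⟨h, hh, rfl⟩ := hyp.exists_conj_mem hA hB hAH hBH
      exact ⟨⟨h, hh⟩, rfl⟩
  rw [← horb, ← Nat.card_coe_set_eq]
  rw [Nat.card_coe_set_eq, ← MulAction.index_stabilizer]
  exact hH.of_dvd_nat (Subgroup.index_dvd_card _)

theorem odd_ncard [Finite G] : Odd D.ncard := by
  classical
  cases nonempty_fintype G
  haveI : Fintype (Subgroup G) := Fintype.ofFinite _
  obtain ⟨A, hA, -, -, -, -⟩ := hyp.exists_noncomm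
  set s : Finset (Subgroup G) := D.toFinset.erase A with hs
  have hsum := Finset.card_eq_sum_card_fiberwise (f := fun B => A ⊔ B) (s := s)
    (t := s.image fun B => A ⊔ B) (fun B hB => Finset.mem_image_of_mem _ hB)
  have heven : Even s.card := by
    rw [hsum]
    refine Finset.even_sum _ fun L hL => ?_
    obtain ⟨B, hB, rfl⟩ := Finset.mem_image.1 hL
    obtain ⟨hBA, hBD⟩ := Finset.mem_erase.1 hB
    rw [Set.mem_toFinset] at hBD
    have hfib : (s.filter fun C => A ⊔ C = A ⊔ B) =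
        ({C | C ∈ D ∧ C ≤ A ⊔ B} : Set (Subgroup G)).toFinset.erase A := by
      ext C
      simp only [hs, Finset.mem_filter, Finset.mem_erase, Set.mem_toFinset, Set.mem_ofPred_eq]
      constructor
      · rintro ⟨⟨hCA, hCD⟩, hCB⟩
        exact ⟨hCA, hCD, hCB ▸ le_sup_right⟩
      · rintro ⟨hCA, hCD, hCB⟩
        exact ⟨⟨hCA, hCD⟩, hyp.line hA hBD hA hCD (Ne.symm hBA) (Ne.symm hCA) le_sup_left hCB⟩
    rw [hfib]
    have hodd := hyp.odd_ncard_le hA (le_sup_left : A ≤ A ⊔ B) (hyp.odd A hA B hBD (Ne.symm hBA))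
    rw [Set.ncard_eq_toFinset_card'] at hodd
    rw [Finset.card_erase_of_mem (by rw [Set.mem_toFinset]; exact ⟨hA, le_sup_left⟩)]
    exact Nat.Odd.sub_odd hodd odd_one
  rw [Set.ncard_eq_toFinset_card', ← Finset.card_erase_add_one (Set.mem_toFinset.2 hA)]
  exact heven.add_one

theorem cj_gen_eq {H : Subgroup G} {h : G} (hh : h ∈ H) : cj h ⁅H, H⁆ = ⁅H, H⁆ := by
  rw [cj_commutator, cj_of_mem hh]

theorem sup_commutator [Finite G] {A H : Subgroup G} (hH : Gen D H) (hA : A ∈ D) (hAH : A ≤ H) :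
    A ⊔ ⁅H, H⁆ = H := by
  refine le_antisymm (sup_le hAH (commutator_self_le H)) (hH.le_of fun B hB hBH => ?_)
  obtain ⟨h, hh, rfl⟩ := hyp.exists_conj_mem hA hB hAH hBH
  rintro _ ⟨a, ha, rfl⟩
  rw [SetLike.mem_coe] at ha
  have e : (MulAut.conj h).toMonoidHom a = ⁅h, a⁆ * a := by simp [commutatorElement_def]
  rw [e]
  exact mul_mem (Subgroup.mem_sup_right (Subgroup.commutator_mem_commutator hh (hAH ha)))
    (Subgroup.mem_sup_left ha)

theorem le_normalizer_commutator {A H : Subgroup G} (hAH : A ≤ H) :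
    A ≤ Subgroup.normalizer ((⁅H, H⁆ : Subgroup G) : Set G) :=
  fun a ha => cj_eq_self_iff.1 (hyp.cj_gen_eq (hAH ha))

/-- Elements of `H` are products `a n` with `a ∈ A`, `n ∈ ⁅H, H⁆`. -/
theorem exists_mul [Finite G] {A H : Subgroup G} (hH : Gen D H) (hA : A ∈ D) (hAH : A ≤ H)
    {h : G} (hh : h ∈ H) : ∃ a ∈ A, ∃ n ∈ ⁅H, H⁆, a * n = h := by
  rw [← hyp.sup_commutator hH hA hAH, ← SetLike.mem_coe,
    Subgroup.coe_mul_of_left_le_normalizer_right _ _ (hyp.le_normalizer_commutator hAH)] at hh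
  exact hh

/-- Elements of `H` are products `n a` with `a ∈ A`, `n ∈ ⁅H, H⁆`. -/
theorem exists_mul' [Finite G] {A H : Subgroup G} (hH : Gen D H) (hA : A ∈ D) (hAH : A ≤ H)
    {h : G} (hh : h ∈ H) : ∃ n ∈ ⁅H, H⁆, ∃ a ∈ A, n * a = h := by
  obtain ⟨a, ha, n, hn, e⟩ := hyp.exists_mul hH hA hAH (inv_mem hh)
  exact ⟨n⁻¹, inv_mem hn, a⁻¹, inv_mem ha, by rw [← mul_inv_rev, e, inv_inv]⟩

theorem inf_commutator [Finite G] {A H : Subgroup G} (hH : Gen D H)
    (hs : Group.IsSolvable H) (hA : A ∈ D) (hAH : A ≤ H) {a : G} (ha : a ∈ A)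
    (haN : a ∈ ⁅H, H⁆) : a = 1 := by
  by_contra ha1
  have hle : A ≤ ⁅H, H⁆ := hyp.le_of_not_disjoint hA ha ha1 haN
  have hH' : H ≤ ⁅H, H⁆ := hH.le_of fun B hB hBH => by
    obtain ⟨h, hh, rfl⟩ := hyp.exists_conj_mem hA hB hAH hBH
    exact hyp.cj_gen_eq hh ▸ cj_mono hle
  haveI := hs
  haveI : Nontrivial H := by
    rw [Subgroup.nontrivial_iff_ne_bot]
    exact ne_bot_of_le_ne_bot (hyp.ne_bot hA) hAH
  have hlt := Group.IsSolvable.commutator_lt_top_of_nontrivial (G := H)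
  refine hlt.ne (Subgroup.map_injective H.subtype_injective ?_)
  rw [map_subtype_commutator, ← MonoidHom.range_eq_map, Subgroup.range_subtype]
  exact le_antisymm (commutator_self_le H) hH'

theorem solvable_pair {A B : Subgroup G} [Finite G] (hA : A ∈ D) (hB : B ∈ D) (hAB : A ≠ B) :
    Group.IsSolvable ↥(A ⊔ B) :=
  Cfsg.Agent.S0205.result (hyp.odd A hA B hB hAB)

theorem pair_inf [Finite G] {A B : Subgroup G} (hA : A ∈ D) (hB : B ∈ D) (hAB : A ≠ B) {a : G}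
    (ha : a ∈ A) (haN : a ∈ ⁅A ⊔ B, A ⊔ B⁆) : a = 1 :=
  hyp.inf_commutator (gen_pair hA hB) (hyp.solvable_pair hA hB hAB) hA le_sup_left ha haN

/-- If `t` centralises `A` and normalises `B`, then it centralises `B`. -/
theorem commute_of_fixed [Finite G] {A B : Subgroup G} (hA : A ∈ D) (hB : B ∈ D) {t : G}
    (htA : ∀ a ∈ A, Commute t a) (htB : cj t B = B) : ∀ b ∈ B, Commute t b := by
  intro b hb
  rcases eq_or_ne A B with rfl | hAB
  · exact htA b hb
  set P := ⁅A ⊔ B, A ⊔ B⁆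
  have hP : cj t P = P := by
    rw [cj_commutator, cj_sup, cj_eq_self_of_commute htA, htB]
  obtain ⟨a, ha, n, hn, e⟩ := hyp.exists_mul (gen_pair hA hB) hA le_sup_left
    (Subgroup.mem_sup_right hb : b ∈ A ⊔ B)
  have h1 : t * b * t⁻¹ ∈ B := htB ▸ conj_mem_cj hb
  have h2 : t * n * t⁻¹ ∈ P := hP ▸ conj_mem_cj hn
  have h3 : t * b * t⁻¹ * b⁻¹ ∈ P := by
    have e2 : t * b * t⁻¹ * b⁻¹ = a * (t * n * t⁻¹ * n⁻¹) * a⁻¹ := by
      rw [← e, show t * (a * n) * t⁻¹ * (a * n)⁻¹ = t * a * (n * t⁻¹ * n⁻¹) * a⁻¹ by group,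
        (htA a ha).eq]
      group
    rw [e2]
    exact (Subgroup.mem_normalizer_iff.1 (hyp.le_normalizer_commutator le_sup_left ha) _).1
      (mul_mem h2 (inv_mem hn))
  have h4 : t * b * t⁻¹ * b⁻¹ = 1 := by
    refine hyp.pair_inf hB hA (Ne.symm hAB) (mul_mem h1 (inv_mem hb)) ?_
    rw [sup_comm B A]
    exact h3
  rw [mul_inv_eq_one] at h4
  exact mul_inv_eq_iff_eq_mul.1 h4

end Hyp

end Cfsg.Agent.H73.PairGen
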