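import Cfsg.Agent.H73.PairGen.Gen

/-!
# Blocks: maximal proper subgroups generated by members with a central fixed element
-/

set_option linter.style.haveILetI false
set_option linter.unusedSectionVars false

namespace Cfsg.Agent.H73.PairGen

open scoped commutatorElement

universe u

variable {G : Type u} [Group G]

/-- The members centralised by `g`. -/
def Fixed (D : Set (Subgroup G)) (g : G) : Set (Subgroup G) :=
  {B | B ∈ D ∧ ∀ b ∈ B, Commute g b}

/-- The subgroup generated by the members centralised by `g`. -/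
def Gc (D : Set (Subgroup G)) (g : G) : Subgroup G := sSup (Fixed D g)

/-- A counterexample all of whose proper subgroups generated by members have odd order, with a
member `A`, and an involution `t` centralising it which centralises as many members as possible. -/
structure Setup (q p : ℕ) (D : Set (Subgroup G)) (A : Subgroup G) (x t : G) : Prop
    extends QHyp q p D where
  small : ∀ K : Subgroup G, K ≠ ⊤ → Gen D K → Odd (Nat.card K)
  memA : A ∈ D
  memx : x ∈ A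
  xne : x ≠ 1
  invol : orderOf t = 2
  tnc : t ∉ Subgroup.center G
  tA : ∀ a ∈ A, Commute t a
  max : ∀ j : G, orderOf j = 2 → (Fixed D j).ncard ≤ (Fixed D t).ncard

/-- A block. -/
structure Block (D : Set (Subgroup G)) (A : Subgroup G) (x : G) (b : Subgroup G) : Prop where
  le : A ≤ b
  ne_top : b ≠ ⊤
  gen : Gen D b
  ex : ∃ c ∈ ⁅b, b⁆, Commute c x ∧ c ∉ Subgroup.center G ∧ Gc D c = b

/-- The fixed elements of a block centralised by `t`. -/
def Zp (x t : G) (b : Subgroup G) : Subgroup G :=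
  ⁅b, b⁆ ⊓ Subgroup.centralizer ({x} : Set G) ⊓ Subgroup.centralizer ({t} : Set G)

theorem mem_Zp {x t z : G} {b : Subgroup G} :
    z ∈ Zp x t b ↔ z ∈ ⁅b, b⁆ ∧ Commute z x ∧ Commute z t := by
  simp only [Zp, Subgroup.mem_inf, Subgroup.mem_centralizer_singleton_iff]
  exact and_assoc

variable {D : Set (Subgroup G)}

theorem gen_Gc (g : G) : Gen D (Gc D g) := gen_sSup D fun _ h => h.1

theorem commute_of_mem_Gc {g w : G} (h : w ∈ Gc D g) : Commute g w := by
  have : Gc D g ≤ Subgroup.centralizer ({g} : Set G) := sSup_le fun B hB b hb =>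
    Subgroup.mem_centralizer_singleton_iff.2 (hB.2 b hb).eq.symm
  exact (Subgroup.mem_centralizer_singleton_iff.1 (this h)).symm

theorem le_Gc {g : G} {B : Subgroup G} (hB : B ∈ D) (h : ∀ b ∈ B, Commute g b) : B ≤ Gc D g :=
  le_sSup ⟨hB, h⟩

theorem Gen.le_Gc {g : G} {H : Subgroup G} (hH : Gen D H) (h : ∀ w ∈ H, Commute g w) :
    H ≤ Gc D g :=
  hH.le_of fun B hB hBH => PairGen.le_Gc hB fun b hb => h b (hBH hb)

theorem commute_conj_iff {g c b : G} :
    Commute (g * c * g⁻¹) b ↔ Commute c (g⁻¹ * b * g) := by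
  constructor
  · intro h
    have := h.map (MulAut.conj g⁻¹).toMonoidHom
    simpa [mul_assoc] using this
  · intro h
    have := h.map (MulAut.conj g).toMonoidHom
    simpa [mul_assoc] using this

theorem cj_Gc {q p : ℕ} (hyp : QHyp q p D) (g c : G) : cj g (Gc D c) = Gc D (g * c * g⁻¹) := by
  rw [Gc, cj_sSup]
  congr 1
  ext B
  constructor
  · rintro ⟨C, ⟨hC, hc⟩, rfl⟩
    exact ⟨hyp.conj C hC g, fun b hb => commute_conj_iff.2 (hc _ (mem_cj.1 hb))⟩
  · rintro ⟨hB, hc⟩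
    refine ⟨cj g⁻¹ B, ⟨hyp.conj B hB _, fun b hb => ?_⟩, cj_cj_inv g B⟩
    rw [mem_cj, inv_inv] at hb
    simpa [mul_assoc] using commute_conj_iff.1 (hc _ hb)

theorem cj_Gc_of_commute {q p : ℕ} (hyp : QHyp q p D) {g c : G} (h : Commute g c) :
    cj g (Gc D c) = Gc D c := by
  rw [cj_Gc hyp, h.eq, mul_inv_cancel_right]

namespace Setup

variable [Finite G] {p q : ℕ} {A : Subgroup G} {x t : G} (S : Setup q p D A x t)
include S

theorem solv {H : Subgroup G} (h : H ≠ ⊤) (hH : Gen D H) : Group.IsSolvable H :=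
  Cfsg.Agent.S0205.result (S.small H h hH)

theorem Gc_ne_top {c : G} (hc : c ∉ Subgroup.center G) : Gc D c ≠ ⊤ := fun h =>
  hc (Subgroup.mem_center_iff.2 fun g =>
    (commute_of_mem_Gc (D := D) (h ▸ Subgroup.mem_top g)).eq.symm)

theorem commute_of_mem_A {g : G} (h : Commute g x) : ∀ a ∈ A, Commute g a := by
  intro a ha
  rw [← S.zpowers_eq S.memA S.memx S.xne] at ha
  obtain ⟨k, rfl⟩ := Subgroup.mem_zpowers_iff.1 ha
  exact h.zpow_right k

theorem cj_A {g : G} (h : Commute g x) : cj g A = A :=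
  cj_eq_self_of_commute (S.commute_of_mem_A h)

theorem commute_conj_x {g c : G} (hg : cj g A = A) (hc : Commute c x) :
    Commute (g * c * g⁻¹) x := by
  rw [commute_conj_iff]
  refine S.commute_of_mem_A hc _ ?_
  have h := S.memx
  rw [← hg, mem_cj] at h
  exact h

theorem central {H : Subgroup G} (h : H ≠ ⊤) (hH : Gen D H) (hAH : A ≤ H) {z : G}
    (hz : z ∈ ⁅H, H⁆) (hc : Commute z x) : ∀ w ∈ H, Commute z w :=
  S.toQHyp.central hH (S.solv h hH) S.memA hAH S.memx S.xne hz hc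

theorem block_Gc {H : Subgroup G} (h : H ≠ ⊤) (hH : Gen D H) (hAH : A ≤ H) {z : G}
    (hz : z ∈ ⁅H, H⁆) (hc : Commute z x) (hzc : z ∉ Subgroup.center G) :
    Block D A x (Gc D z) ∧ H ≤ Gc D z :=
  have hle := hH.le_Gc (S.central h hH hAH hz hc)
  ⟨⟨hAH.trans hle, S.Gc_ne_top hzc, gen_Gc z,
    z, Subgroup.commutator_mono hle hle hz, hc, hzc, rfl⟩, hle⟩

theorem block_eq {b : Subgroup G} (hb : Block D A x b) {z : G} (hz : z ∈ ⁅b, b⁆)
    (hc : Commute z x) (hzc : z ∉ Subgroup.center G) : Gc D z = b := by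
  obtain ⟨hbl, hle⟩ := S.block_Gc hb.ne_top hb.gen hb.le hz hc hzc
  obtain ⟨c, hc1, hc2, hc3, hc4⟩ := hb.ex
  refine le_antisymm ?_ hle
  rw [← hc4]
  exact (gen_Gc z).le_Gc
    (S.central hbl.ne_top hbl.gen hbl.le (Subgroup.commutator_mono hle hle hc1) hc2)

theorem block_inter {b b' : Subgroup G} (hb : Block D A x b) (hb' : Block D A x b') (hne : b ≠ b')
    {z : G} (hz : z ∈ ⁅b, b⁆) (hz' : z ∈ ⁅b', b'⁆) (hc : Commute z x) :
    z ∈ Subgroup.center G :=
  by_contra fun hzc => hne ((S.block_eq hb hz hc hzc).symm.trans (S.block_eq hb' hz' hc hzc))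

theorem block_sup {b b' : Subgroup G} (hb : Block D A x b) (hb' : Block D A x b') (hne : b ≠ b') :
    b ⊔ b' = ⊤ := by
  by_contra h
  have hgen : Gen D (b ⊔ b') := le_antisymm (sSup_le fun B hB => hB.2)
    (sup_le (hb.gen.le_of fun B hB hle => le_sSup (⟨hB, hle.trans le_sup_left⟩ : B ∈ {C | C ∈ D ∧ C ≤ b ⊔ b'}))
      (hb'.gen.le_of fun B hB hle => le_sSup (⟨hB, hle.trans le_sup_right⟩ : B ∈ {C | C ∈ D ∧ C ≤ b ⊔ b'})))
  have key : ∀ d, Block D A x d → d ≤ b ⊔ b' → b ⊔ b' ≤ d := by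
    intro d hd hle
    obtain ⟨c, hc1, hc2, hc3, hc4⟩ := hd.ex
    exact hc4 ▸ (S.block_Gc h hgen (hd.le.trans hle) (Subgroup.commutator_mono hle hle hc1) hc2 hc3).2
  exact hne (le_antisymm (le_sup_left.trans (key b' hb' le_sup_right))
    (le_sup_right.trans (key b hb le_sup_left)))

theorem block_conj {b : Subgroup G} (hb : Block D A x b) {g : G} (hg : cj g A = A) :
    Block D A x (cj g b) := by
  obtain ⟨c, hc1, hc2, hc3, hc4⟩ := hb.ex
  refine ⟨hg ▸ cj_mono hb.le, fun h => hb.ne_top ?_, ?_, g * c * g⁻¹, ?_,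
    S.commute_conj_x hg hc2, fun h => hc3 ?_, by rw [← cj_Gc S.toQHyp, hc4]⟩
  · rw [← cj_inv_cj g b, h]
    exact eq_top_iff.2 fun w _ => mem_cj.2 (Subgroup.mem_top _)
  · rw [← hc4, cj_Gc S.toQHyp]; exact gen_Gc _
  · rw [← cj_commutator]; exact conj_mem_cj hc1
  · simpa [mul_assoc] using (inferInstance : (Subgroup.center G).Normal).conj_mem _ h g⁻¹

theorem cj_block {b : Subgroup G} (hb : Block D A x b) {z : G} (hz : z ∈ Zp x t b)
    (hzc : z ∉ Subgroup.center G) : cj t b = b := by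
  obtain ⟨h1, h2, h3⟩ := mem_Zp.1 hz
  rw [← S.block_eq hb h1 h2 hzc]
  exact cj_Gc_of_commute S.toQHyp h3.symm

theorem cj_block_self {b : Subgroup G} {z : G} (hz : z ∈ Zp x t b) : cj z b = b :=
  cj_of_mem (commutator_self_le b (mem_Zp.1 hz).1)

theorem Zp_pgroup {b : Subgroup G} (hb : Block D A x b) : IsPGroup q (Zp x t b) :=
  (S.toQHyp.pgroup hb.gen (S.solv hb.ne_top hb.gen) S.memA hb.le S.memx S.xne).to_le
    fun _ h => (mem_Zp.1 h).1

theorem cj_mem_Zp {b : Subgroup G} {g z : G} (hgx : Commute g x) (hgt : Commute g t)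
    (hz : z ∈ Zp x t b) : g * z * g⁻¹ ∈ Zp x t (cj g b) := by
  obtain ⟨h1, h2, h3⟩ := mem_Zp.1 hz
  refine mem_Zp.2 ⟨by rw [← cj_commutator]; exact conj_mem_cj h1,
    (hgx.mul_left h2).mul_left hgx.inv_left, (hgt.mul_left h3).mul_left hgt.inv_left⟩

theorem mutual_false {b b' : Subgroup G} (hb : Block D A x b) (hb' : Block D A x b') (hne : b ≠ b')
    (hab : ¬ AbPairs D) {c z0 : G} (hc : c ∈ Zp x t b') (hcc : c ∉ Subgroup.center G)
    (hz0 : z0 ∈ Zp x t b) (hz0c : z0 ∉ Subgroup.center G)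
    (h1 : ∀ z ∈ Zp x t b, cj z b' = b') (h2 : ∀ z ∈ Zp x t b', cj z b = b) : False := by
  obtain ⟨hc1, hc2, hc3⟩ := mem_Zp.1 hc
  obtain ⟨m, hm⟩ := S.Zp_pgroup hb' ⟨c, hc⟩
  have hcen : ∀ w ∈ b, Commute c w := by
    refine S.toQHyp.key hb.gen (S.solv hb.ne_top hb.gen) S.memA hb.le S.memx S.xne hab
      (t := t) (by rw [← sq, ← S.invol, pow_orderOf_eq_one]) (S.cj_block hb hz0 hz0c)
      (S.tA x S.memx) (h2 c hc) hc2 hc3 ⟨m, by simpa using congrArg Subtype.val hm⟩ ?_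
    intro z hz hzx hzt
    have hzp : z ∈ Zp x t b := mem_Zp.2 ⟨hz, hzx, hzt.symm⟩
    set w := z⁻¹ * (c * z * c⁻¹)
    have hw1 : w ∈ Zp x t b := by
      have := S.cj_mem_Zp hc2 hc3 hzp
      rw [h2 c hc] at this
      exact mul_mem (inv_mem hzp) this
    have hw2 : w ∈ Zp x t b' := by
      have := S.cj_mem_Zp hzx.inv_left hzt.symm.inv_left hc
      rw [h1 _ (inv_mem hzp)] at this
      rw [show w = z⁻¹ * c * z⁻¹⁻¹ * c⁻¹ by simp [w, mul_assoc]]
      exact mul_mem this (inv_mem hc)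
    exact (Subgroup.mem_center_iff.1 (S.block_inter hb hb' hne (mem_Zp.1 hw1).1 (mem_Zp.1 hw2).1
      (mem_Zp.1 hw1).2.1) c)
  have hcen' := S.central hb'.ne_top hb'.gen hb'.le hc1 hc2
  refine hcc (Subgroup.mem_center_iff.2 fun g => ?_)
  have hle : b ⊔ b' ≤ Subgroup.centralizer ({c} : Set G) :=
    sup_le (fun w hw => Subgroup.mem_centralizer_singleton_iff.2 (hcen w hw).eq.symm)
      (fun w hw => Subgroup.mem_centralizer_singleton_iff.2 (hcen' w hw).eq.symm)
  exact Subgroup.mem_centralizer_singleton_iff.1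
    (hle (S.block_sup hb hb' hne ▸ Subgroup.mem_top g))

theorem Gc_t_ne_top : Gc D t ≠ ⊤ := S.Gc_ne_top S.tnc

theorem A_le_Gc_t : A ≤ Gc D t := le_Gc S.memA S.tA

/-- If some fixed element of the derived group of `⟨D_t⟩` is noncentral, it determines the only
block. -/
theorem block_eq_of_noncentral (hab : ¬ AbPairs D) {c0 : G} (hc0 : c0 ∈ ⁅Gc D t, Gc D t⁆)
    (hc0x : Commute c0 x) (hc0c : c0 ∉ Subgroup.center G) {b : Subgroup G} (hb : Block D A x b)
    (hex : ∃ z ∈ Zp x t b, z ∉ Subgroup.center G) : b = Gc D c0 := by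
  obtain ⟨hb0, hle0⟩ := S.block_Gc S.Gc_t_ne_top (gen_Gc t) S.A_le_Gc_t hc0 hc0x hc0c
  set b0 := Gc D c0
  obtain ⟨zb, hzb, hzbc⟩ := hex
  have hzp0 : c0 ∈ Zp x t b0 := mem_Zp.2 ⟨Subgroup.commutator_mono hle0 hle0 hc0, hc0x,
    (commute_of_mem_Gc (commutator_self_le _ hc0)).symm⟩
  have hfix0 : ∀ g, Commute g x → Commute g t → cj g b0 = b0 := by
    intro g hgx hgt
    rw [cj_Gc S.toQHyp]
    refine S.block_eq hb0 ?_ (S.commute_conj_x (S.cj_A hgx) hc0x) fun h => hc0c (by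
      simpa [mul_assoc] using (inferInstance : (Subgroup.center G).Normal).conj_mem _ h g⁻¹)
    refine Subgroup.commutator_mono hle0 hle0 ?_
    rw [← cj_Gc_of_commute S.toQHyp hgt, ← cj_commutator]
    exact conj_mem_cj hc0
  by_contra hne
  by_cases hall : ∀ z ∈ Zp x t b0, cj z b = b
  · exact S.mutual_false hb hb0 hne hab hzp0 hc0c hzb hzbc
      (fun z hz => hfix0 z (mem_Zp.1 hz).2.1 (mem_Zp.1 hz).2.2) hall
  set P := Zp x t b ⊔ Zp x t b0 with hP
  haveI := Fact.mk S.qprime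
  have hnorm : Zp x t b ≤ Subgroup.normalizer (Zp x t b0 : Set G) := by
    intro z hz
    rw [← cj_eq_self_iff]
    refine Subgroup.eq_of_le_of_card_ge ?_ (card_cj z _).ge
    intro w hw
    rw [mem_cj] at hw
    have := S.cj_mem_Zp (mem_Zp.1 hz).2.1 (mem_Zp.1 hz).2.2 hw
    rw [hfix0 z (mem_Zp.1 hz).2.1 (mem_Zp.1 hz).2.2] at this
    simpa [mul_assoc] using this
  have hPq : IsPGroup q P := (S.Zp_pgroup hb).to_sup_of_normal_right' (S.Zp_pgroup hb0) hnorm
  haveI := hPq.isNilpotent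
  have hPc : ∀ y ∈ P, Commute y x ∧ Commute y t := by
    intro y hy
    have hle : P ≤ Subgroup.centralizer ({x} : Set G) ⊓ Subgroup.centralizer ({t} : Set G) :=
      sup_le (fun w hw => ⟨Subgroup.mem_centralizer_singleton_iff.2 (mem_Zp.1 hw).2.1.eq,
          Subgroup.mem_centralizer_singleton_iff.2 (mem_Zp.1 hw).2.2.eq⟩)
        (fun w hw => ⟨Subgroup.mem_centralizer_singleton_iff.2 (mem_Zp.1 hw).2.1.eq,
          Subgroup.mem_centralizer_singleton_iff.2 (mem_Zp.1 hw).2.2.eq⟩)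
    exact ⟨Subgroup.mem_centralizer_singleton_iff.1 (hle hy).1,
      Subgroup.mem_centralizer_singleton_iff.1 (hle hy).2⟩
  set Pb := (Subgroup.normalizer (b : Set G)).subgroupOf P with hPb
  have hPbne : Pb < ⊤ := by
    refine lt_top_iff_ne_top.2 fun h => hall fun z hz => ?_
    exact cj_eq_self_iff.2 (Subgroup.mem_subgroupOf.1
      (h ▸ Subgroup.mem_top (⟨z, Subgroup.mem_sup_right hz⟩ : P)))
  obtain ⟨y, hy, hy'⟩ := SetLike.exists_of_lt (Group.normalizerCondition_of_isNilpotent Pb hPbne)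
  obtain ⟨hyx, hyt⟩ := hPc y y.2
  have hb' := S.block_conj hb (S.cj_A hyx)
  set b' := cj (y : G) b
  have hne' : b ≠ b' := fun h => hy' (Subgroup.mem_subgroupOf.2 (cj_eq_self_iff.1 h.symm))
  have hfixb : ∀ w : P, w ∈ Pb → cj (w : G) b = b := fun w hw =>
    cj_eq_self_iff.2 (Subgroup.mem_subgroupOf.1 hw)
  have hin : ∀ z (hz : z ∈ Zp x t b), (⟨z, Subgroup.mem_sup_left hz⟩ : P) ∈ Pb := fun z hz =>
    Subgroup.mem_subgroupOf.2 (cj_eq_self_iff.1 (S.cj_block_self hz))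
  have hback : ∀ z, z ∈ Zp x t b' → (y : G)⁻¹ * z * y ∈ Zp x t b := by
    intro z hz
    have := S.cj_mem_Zp hyx.inv_left hyt.inv_left hz
    rwa [cj_inv_cj, inv_inv] at this
  refine S.mutual_false hb hb' hne' hab (c := y * zb * (y : G)⁻¹) (S.cj_mem_Zp hyx hyt hzb)
    (fun h => hzbc (by
      simpa [mul_assoc] using (inferInstance : (Subgroup.center G).Normal).conj_mem _ h (y : G)⁻¹))
    hzb hzbc (fun z hz => ?_) fun z hz => ?_
  · have h1 := (Subgroup.mem_normalizer_iff''.1 hy _).1 (hin z hz)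
    have h2 := hfixb _ h1
    rw [show ((y⁻¹ * (⟨z, Subgroup.mem_sup_left hz⟩ : P) * y : P) : G) = (y : G)⁻¹ * z * y from rfl]
      at h2
    calc cj z b' = cj (y : G) (cj ((y : G)⁻¹ * z * y) b) := by rw [cj_cj, cj_cj]; congr 1; group
      _ = b' := by rw [h2]
  · have h1 := (Subgroup.mem_normalizer_iff.1 hy _).1 (hin _ (hback z hz))
    have h2 := hfixb _ h1
    rwa [show ((y * (⟨_, Subgroup.mem_sup_left (hback z hz)⟩ : P) * y⁻¹ : P) : G) = z by
      show (y : G) * ((y : G)⁻¹ * z * y) * (y : G)⁻¹ = z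
      group] at h2

end Setup

end Cfsg.Agent.H73.PairGen
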