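import Mathlib

/-!
# Conjugates of subgroups, and small general lemmas
-/

namespace Cfsg.Agent.H73.PairGen

open scoped commutatorElement

universe u

variable {G : Type u} [Group G]

/-- The conjugate `g A g⁻¹`. -/
def cj (g : G) (A : Subgroup G) : Subgroup G := A.map (MulAut.conj g).toMonoidHom

theorem mem_cj {g x : G} {A : Subgroup G} : x ∈ cj g A ↔ g⁻¹ * x * g ∈ A := by
  constructor
  · rintro ⟨a, ha, rfl⟩
    rw [SetLike.mem_coe] at ha
    simpa [mul_assoc] using ha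
  · intro h
    exact ⟨g⁻¹ * x * g, h, by simp [mul_assoc]⟩

theorem conj_mem_cj {g a : G} {A : Subgroup G} (h : a ∈ A) : g * a * g⁻¹ ∈ cj g A :=
  mem_cj.2 (by simpa [mul_assoc] using h)

theorem cj_one (A : Subgroup G) : cj 1 A = A := by
  ext x; simp [mem_cj]

theorem cj_cj (g h : G) (A : Subgroup G) : cj g (cj h A) = cj (g * h) A := by
  ext x; simp [mem_cj, mul_assoc]

theorem cj_inv_cj (g : G) (A : Subgroup G) : cj g⁻¹ (cj g A) = A := by
  rw [cj_cj, inv_mul_cancel, cj_one]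

theorem cj_cj_inv (g : G) (A : Subgroup G) : cj g (cj g⁻¹ A) = A := by
  rw [cj_cj, mul_inv_cancel, cj_one]

theorem cj_inj {g : G} {A B : Subgroup G} (h : cj g A = cj g B) : A = B := by
  rw [← cj_inv_cj g A, h, cj_inv_cj]

theorem cj_mono {g : G} {A B : Subgroup G} (h : A ≤ B) : cj g A ≤ cj g B :=
  Subgroup.map_mono h

theorem cj_sup (g : G) (A B : Subgroup G) : cj g (A ⊔ B) = cj g A ⊔ cj g B :=
  Subgroup.map_sup _ _ _

theorem cj_commutator (g : G) (A B : Subgroup G) : cj g ⁅A, B⁆ = ⁅cj g A, cj g B⁆ :=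
  Subgroup.map_commutator _ _ _

theorem card_cj (g : G) (A : Subgroup G) : Nat.card (cj g A) = Nat.card A :=
  Subgroup.card_map_of_injective (MulAut.conj g).injective

theorem cj_le_of_mem {g : G} {A H : Subgroup G} (hA : A ≤ H) (hg : g ∈ H) : cj g A ≤ H :=
  fun x hx => by
    have h := mul_mem (mul_mem hg (hA (mem_cj.1 hx))) (inv_mem hg)
    simpa [mul_assoc] using h

theorem cj_eq_self_iff {g : G} {A : Subgroup G} :
    cj g A = A ↔ g ∈ Subgroup.normalizer (A : Set G) :=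
  Subgroup.mem_normalizer_iff_map_conj_eq.symm

theorem cj_of_mem {g : G} {A : Subgroup G} (hg : g ∈ A) : cj g A = A :=
  cj_eq_self_iff.2 (Subgroup.le_normalizer hg)

theorem cj_sSup (g : G) (E : Set (Subgroup G)) : cj g (sSup E) = sSup (cj g '' E) := by
  rw [cj, (Subgroup.gc_map_comap _).l_sSup, sSup_image]
  rfl

theorem cj_eq_self_of_commute {g : G} {A : Subgroup G} (h : ∀ a ∈ A, Commute g a) : cj g A = A := by
  ext x
  constructor
  · intro hx
    have hc : g * (g⁻¹ * x * g) * g⁻¹ = g⁻¹ * x * g := by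
      rw [(h _ (mem_cj.1 hx)).eq, mul_inv_cancel_right]
    have hx' := mem_cj.1 hx
    rwa [← hc, show g * (g⁻¹ * x * g) * g⁻¹ = x by group] at hx'
  · intro hx
    rw [mem_cj, mul_assoc, ← (h x hx).eq, inv_mul_cancel_left]
    exact hx

theorem cj_cj_of_sq {t : G} (ht : t * t = 1) (A : Subgroup G) : cj t (cj t A) = A := by
  rw [cj_cj, ht, cj_one]

theorem cj_comm_of_commute {g h : G} (hc : Commute g h) (A : Subgroup G) :
    cj g (cj h A) = cj h (cj g A) := by
  rw [cj_cj, cj_cj, hc.eq]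

/-- In a group generated by an abelian subgroup and a subgroup it normalises, the latter contains
the derived subgroup. -/
theorem commutator_sup_le {A Q : Subgroup G} (hA : ∀ a ∈ A, ∀ b ∈ A, Commute a b)
    (hQ : A ≤ Subgroup.normalizer (Q : Set G)) : ⁅A ⊔ Q, A ⊔ Q⁆ ≤ Q := by
  rw [Subgroup.commutator_le]
  intro u hu v hv
  rw [← SetLike.mem_coe, Subgroup.coe_mul_of_left_le_normalizer_right A Q hQ] at hu hv
  obtain ⟨a, ha, q, hq, rfl⟩ := hu
  obtain ⟨b, hb, r, hr, rfl⟩ := hv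
  rw [SetLike.mem_coe] at ha hb hq hr
  have hn : ∀ c ∈ A, ∀ x ∈ Q, c * x * c⁻¹ ∈ Q := fun c hc x hx =>
    (Subgroup.mem_normalizer_iff.1 (hQ hc) x).1 hx
  have hn' : ∀ c ∈ A, ∀ x ∈ Q, c⁻¹ * x * c ∈ Q := fun c hc x hx =>
    (Subgroup.mem_normalizer_iff''.1 (hQ hc) x).1 hx
  have e : ⁅a * q, b * r⁆ =
      a * (q * (b * (r * q⁻¹) * b⁻¹)) * a⁻¹ * (a * b * a⁻¹ * b⁻¹) * (b * r⁻¹ * b⁻¹) := by
    have hab : a * b * a⁻¹ * b⁻¹ = 1 := by rw [(hA a ha b hb).eq]; group
    rw [hab, mul_one, commutatorElement_def]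
    calc a * q * (b * r) * (a * q)⁻¹ * (b * r)⁻¹
        = a * (q * (b * (r * q⁻¹) * b⁻¹)) * (b * a⁻¹) * r⁻¹ * b⁻¹ := by group
      _ = a * (q * (b * (r * q⁻¹) * b⁻¹)) * (a⁻¹ * b) * r⁻¹ * b⁻¹ := by
          rw [((hA a ha b hb).inv_left).eq.symm]
      _ = _ := by group
  rw [e, show a * b * a⁻¹ * b⁻¹ = 1 by rw [(hA a ha b hb).eq]; group, mul_one]
  exact mul_mem (hn a ha _ (mul_mem hq (hn b hb _ (mul_mem hr (inv_mem hq)))))
    (hn b hb _ (inv_mem hr))

theorem mem_of_sq_mem {N : Subgroup G} {y : G} (hodd : Odd (orderOf y)) (h : y ^ 2 ∈ N) :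
    y ∈ N := by
  obtain ⟨j, hj⟩ := hodd
  have : (y ^ 2) ^ (j + 1) = y := by
    rw [← pow_mul, show 2 * (j + 1) = (2 * j + 1) + 1 by ring, pow_succ, ← hj, pow_orderOf_eq_one,
      one_mul]
  exact this ▸ N.pow_mem h _

theorem eq_one_of_sq {y : G} (hodd : Odd (orderOf y)) (h : y ^ 2 = 1) : y = 1 := by
  simpa using mem_of_sq_mem (N := (⊥ : Subgroup G)) hodd (by simpa using h)

/-- An element of odd order inverted by an involution has a square root inverted by it. -/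
theorem exists_sq_inverted {t z : G} (hodd : Odd (orderOf z)) (hz : t * z * t⁻¹ = z⁻¹) :
    ∃ i : ℕ, (z ^ i) ^ 2 = z ∧ t * z ^ i * t⁻¹ = (z ^ i)⁻¹ := by
  obtain ⟨j, hj⟩ := hodd
  refine ⟨j + 1, ?_, by rw [← conj_pow, hz, inv_pow]⟩
  rw [← pow_mul, show (j + 1) * 2 = (2 * j + 1) + 1 by ring, pow_succ, ← hj, pow_orderOf_eq_one,
    one_mul]

theorem odd_orderOf_of_mem {H : Subgroup G} (hH : Odd (Nat.card H)) {x : G} (hx : x ∈ H) :
    Odd (orderOf x) :=
  hH.of_dvd_nat (Subgroup.orderOf_dvd_natCard H hx)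

/-- A set of odd size invariant under an involution has a fixed point. -/
theorem exists_fixed_of_odd {α : Type*} (f : α → α) (hf : ∀ a, f (f a) = a) (s : Finset α)
    (hs : ∀ a ∈ s, f a ∈ s) (hodd : Odd s.card) : ∃ a ∈ s, f a = a := by
  by_contra hne
  simp only [not_exists, not_and] at hne
  have h : ∑ _a ∈ s, (1 : ZMod 2) = 0 := Finset.sum_involution (fun a _ => f a)
    (fun a _ => by decide) (fun a ha _ => hne a ha) hs (fun a _ => hf a)
  rw [Finset.sum_const, nsmul_one, ZMod.natCast_eq_zero_iff_even] at h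
  exact Nat.not_even_iff_odd.2 hodd h

theorem exists_fixed_of_odd_ncard {α : Type*} [Finite α] (f : α → α) (hf : ∀ a, f (f a) = a)
    (s : Set α) (hs : ∀ a ∈ s, f a ∈ s) (hodd : Odd s.ncard) : ∃ a ∈ s, f a = a := by
  classical
  cases nonempty_fintype α
  obtain ⟨a, ha, h⟩ := exists_fixed_of_odd f hf s.toFinset (by simpa using hs)
    (by rwa [← Set.ncard_eq_toFinset_card'])
  exact ⟨a, by simpa using ha, h⟩

theorem pow_eq_self_of_commute_conj {a b : G} {k p : ℕ} (h : a * b * a⁻¹ = b ^ k) :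
    a ^ p * b * (a ^ p)⁻¹ = b ^ k ^ p := by
  induction p with
  | zero => simp
  | succ n ih =>
    rw [pow_succ, mul_inv_rev, show a ^ n * a * b * (a⁻¹ * (a ^ n)⁻¹) =
      a ^ n * (a * b * a⁻¹) * (a ^ n)⁻¹ by group, h, ← conj_pow, ih, ← pow_mul, pow_succ]

/-- If `A` and `B` are subgroups of order `p` and `A` normalises `B`, they commute. -/
theorem commute_of_normalize {p : ℕ} [Fact p.Prime] [Finite G] {B : Subgroup G}
    (hB : Nat.card B = p) {a b : G} (ha : a ^ p = 1) (hab : cj a B = B) (hb : b ∈ B) :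
    Commute a b := by
  rcases eq_or_ne b 1 with rfl | hb1
  · exact Commute.one_right a
  have h1 : a * b * a⁻¹ ∈ B := hab ▸ conj_mem_cj (g := a) hb
  obtain ⟨k, hk⟩ : ∃ k : ℕ, b ^ k = a * b * a⁻¹ := by
    have := mem_powers_of_prime_card (G := B) hB (g := ⟨b, hb⟩) (g' := ⟨a * b * a⁻¹, h1⟩)
      (fun h => hb1 (congrArg Subtype.val h))
    obtain ⟨k, hk⟩ := this
    exact ⟨k, by simpa using congrArg Subtype.val hk⟩
  have h2 := pow_eq_self_of_commute_conj (p := p) hk.symm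
  rw [ha, inv_one, mul_one, one_mul] at h2
  have hord : orderOf b = p := by
    refine orderOf_eq_prime ?_ hb1
    have := pow_card_eq_one' (G := B) (x := ⟨b, hb⟩)
    rw [hB] at this
    simpa using congrArg Subtype.val this
  have h3 : b ^ k = b ^ k ^ p := by
    rw [pow_eq_pow_iff_modEq, hord, ← ZMod.natCast_eq_natCast_iff]
    simp [ZMod.pow_card]
  rw [← h2, hk] at h3
  exact mul_inv_eq_iff_eq_mul.1 h3

end Cfsg.Agent.H73.PairGen
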