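import Cfsg.Agent.H73.PairGen.Conj

/-!
# Finite solvable groups which are the normal closure of one element
-/

set_option linter.style.haveILetI false
set_option linter.unusedSectionVars false

namespace Cfsg.Agent.H73.PairGen

open scoped commutatorElement

universe u

variable {H : Type u} [Group H]

theorem mem_center_of_forall_conj {x : H} (hx : Subgroup.normalClosure {x} = ⊤) {z : H}
    (h : ∀ g : H, Commute (g⁻¹ * z * g) x) : z ∈ Subgroup.center H := by
  refine Subgroup.mem_center_iff.2 fun g => ?_
  let K : Subgroup H :=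
    { carrier := {y | ∀ w : H, Commute (w⁻¹ * z * w) y}
      one_mem' := fun w => Commute.one_right _
      mul_mem' := fun ha hb w => (ha w).mul_right (hb w)
      inv_mem' := fun ha w => (ha w).inv_right }
  haveI : K.Normal := ⟨fun y hy g w => by
    have h1 := (hy (w * g)).map (MulAut.conj g).toMonoidHom
    simpa [mul_assoc] using h1⟩
  have hle : Subgroup.normalClosure {x} ≤ K :=
    Subgroup.normalClosure_le_normal (Set.singleton_subset_iff.2 h)
  have := (hle (hx ▸ Subgroup.mem_top g)) 1
  simpa using this.eq.symm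

/-- The derived group is generated by the displacements of a normally generating element. -/
theorem closure_disp {x : H} (hx : Subgroup.normalClosure {x} = ⊤) :
    Subgroup.closure (Set.range fun g => g * x * g⁻¹ * x⁻¹) = commutator H := by
  set S := Subgroup.closure (Set.range fun g => g * x * g⁻¹ * x⁻¹) with hS
  have hle : S ≤ commutator H := by
    rw [hS, Subgroup.closure_le]
    rintro _ ⟨g, rfl⟩
    rw [commutator_def]
    exact Subgroup.commutator_mem_commutator (Subgroup.mem_top g) (Subgroup.mem_top x)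
  have hmem : ∀ g, g * x * g⁻¹ * x⁻¹ ∈ S := fun g => Subgroup.subset_closure ⟨g, rfl⟩
  haveI : S.Normal := by
    refine ⟨fun s hs h => ?_⟩
    have : S ≤ S.comap (MulAut.conj h).toMonoidHom := by
      rw [hS, Subgroup.closure_le]
      rintro _ ⟨g, rfl⟩
      rw [SetLike.mem_coe, Subgroup.mem_comap]
      have e : (MulAut.conj h).toMonoidHom (g * x * g⁻¹ * x⁻¹) =
          (h * g * x * (h * g)⁻¹ * x⁻¹) * (h * x * h⁻¹ * x⁻¹)⁻¹ := by
        simp only [MulEquiv.toMonoidHom_eq_coe, MonoidHom.coe_coe, MulAut.conj_apply]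
        group
      rw [e]
      exact mul_mem (hmem _) (inv_mem (hmem h))
    exact this hs
  refine le_antisymm hle ?_
  set K := Subgroup.zpowers x ⊔ S with hK
  haveI : K.Normal := by
    refine ⟨fun k hk h => ?_⟩
    have : K ≤ K.comap (MulAut.conj h).toMonoidHom := by
      refine sup_le (Subgroup.zpowers_le.2 ?_) fun s hs => ?_
      · rw [Subgroup.mem_comap]
        have e : (MulAut.conj h).toMonoidHom x = (h * x * h⁻¹ * x⁻¹) * x := by simp
        rw [e]
        exact mul_mem (Subgroup.mem_sup_right (hmem h))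
          (Subgroup.mem_sup_left (Subgroup.mem_zpowers x))
      · exact Subgroup.mem_sup_right (Subgroup.Normal.conj_mem inferInstance s hs h)
    exact this hk
  have htop : K = ⊤ := eq_top_iff.2 (hx ▸ Subgroup.normalClosure_le_normal
    (Set.singleton_subset_iff.2 (Subgroup.mem_sup_left (Subgroup.mem_zpowers x))))
  have h := commutator_sup_le (A := Subgroup.zpowers x) (Q := S) (fun a ha b hb => by
      obtain ⟨i, rfl⟩ := Subgroup.mem_zpowers_iff.1 ha
      obtain ⟨j, rfl⟩ := Subgroup.mem_zpowers_iff.1 hb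
      exact (Commute.refl x).zpow_zpow i j)
    (by rw [Subgroup.normalizer_eq_top]; exact le_top)
  rw [← hK, htop] at h
  exact h

/-- A subgroup generated by `q`-elements of a nilpotent group is a `q`-group. -/
theorem isPGroup_closure_of_nilpotent [Finite H] [Group.IsNilpotent H] {q : ℕ} [Fact q.Prime]
    {T : Set H} (hT : ∀ s ∈ T, ∃ n, s ^ q ^ n = 1) : IsPGroup q (Subgroup.closure T) := by
  obtain ⟨P⟩ := (inferInstance : Nonempty (Sylow q H))
  haveI : (P : Subgroup H).Normal := by
    have := (Group.isNilpotent_of_finite_tfae (G := H)).out 0 3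
    exact this.1 inferInstance q inferInstance P
  refine P.isPGroup'.to_le ((Subgroup.closure_le _).2 fun s hs => ?_)
  obtain ⟨n, hn⟩ := hT s hs
  have hp : IsPGroup q (Subgroup.zpowers s) := by
    obtain ⟨k, -, hk⟩ := (Nat.dvd_prime_pow Fact.out).1 (orderOf_dvd_of_pow_eq_one hn)
    exact IsPGroup.of_card (n := k) (by rw [Nat.card_zpowers, hk])
  obtain ⟨Q, hQ⟩ := hp.exists_le_sylow
  haveI := Sylow.unique_of_normal P inferInstance
  rw [Subsingleton.elim Q P] at hQ
  exact hQ (Subgroup.mem_zpowers s)

/-- If all displacements of a normally generating element of a solvable group are `q`-elements,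
the derived group is a `q`-group. -/
theorem isPGroup_commutator_of_disp [Finite H] {q : ℕ} [Fact q.Prime] (hs : Group.IsSolvable H)
    {x : H} (hx : Subgroup.normalClosure {x} = ⊤)
    (hd : ∀ g, ∃ n, (g * x * g⁻¹ * x⁻¹) ^ q ^ n = 1) : IsPGroup q (commutator H) := by
  generalize hn : Nat.card H = n
  induction n using Nat.strong_induction_on generalizing H with
  | _ n ih =>
  subst hn
  haveI := hs
  by_cases hc : commutator H = ⊥
  · rw [hc]; exact IsPGroup.of_bot
  classical
  have hex : ∃ k, derivedSeries H (k + 1) = ⊥ := by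
    obtain ⟨k, hk⟩ := hs.solvable
    exact ⟨k, le_bot_iff.1 (hk ▸ derivedSeries_antitone H (Nat.le_succ k))⟩
  have hk := Nat.find_spec hex
  have hk1 : Nat.find hex ≠ 0 := fun h => hc (by rw [h] at hk; simpa using hk)
  have hkmin := Nat.find_min hex (Nat.sub_lt (Nat.pos_of_ne_zero hk1) one_pos)
  rw [Nat.sub_add_cancel (Nat.one_le_iff_ne_zero.2 hk1)] at hkmin
  generalize Nat.find hex = k at hk hk1 hkmin
  set M := derivedSeries H k with hMdef
  haveI hMn : M.Normal := derivedSeries_normal H k
  have hMc : M ≤ commutator H := by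
    rw [← derivedSeries_one]; exact derivedSeries_antitone H (Nat.one_le_iff_ne_zero.2 hk1)
  have hab : ∀ a ∈ M, ∀ b ∈ M, Commute a b := fun a ha b hb =>
    commutatorElement_eq_one_iff_commute.1
      (Subgroup.mem_bot.1 (hk ▸ (derivedSeries_succ H k).symm ▸
        Subgroup.commutator_mem_commutator ha hb))
  set e := ordCompl[q] (Nat.card M) with he
  have heq : Nat.Coprime q e := Nat.coprime_ordCompl Fact.out Nat.card_pos.ne'
  let K : Subgroup H :=
    { carrier := {m | m ∈ M ∧ m ^ e = 1}
      one_mem' := ⟨one_mem M, one_pow e⟩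
      mul_mem' := fun {a b} ha hb => ⟨mul_mem ha.1 hb.1, by
        rw [(hab a ha.1 b hb.1).mul_pow, ha.2, hb.2, one_mul]⟩
      inv_mem' := fun {a} ha => ⟨inv_mem ha.1, by rw [inv_pow, ha.2, inv_one]⟩ }
  haveI hKn : K.Normal := ⟨fun m hm g => ⟨hMn.conj_mem m hm.1 g, by
    rw [conj_pow, hm.2]; group⟩⟩
  have quot : ∀ (L : Subgroup H) [L.Normal], L ≠ ⊥ →
      ∀ g ∈ commutator H, ∃ j, g ^ q ^ j ∈ L := by
    intro L _ hL g hg
    have hlt : Nat.card (H ⧸ L) < Nat.card H := by
      rw [Subgroup.card_eq_card_quotient_mul_card_subgroup L]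
      exact (Nat.lt_mul_iff_one_lt_right Nat.card_pos).2
        ((Subgroup.one_lt_card_iff_ne_bot L).2 hL)
    have hsurj := QuotientGroup.mk'_surjective L
    have hx' : Subgroup.normalClosure {(QuotientGroup.mk x : H ⧸ L)} = ⊤ := by
      have := Subgroup.map_normalClosure {x} (QuotientGroup.mk' L) hsurj
      rw [hx, Subgroup.map_top_of_surjective _ hsurj, Set.image_singleton] at this
      exact this.symm
    have hd' : ∀ c : H ⧸ L, ∃ n, (c * QuotientGroup.mk x * c⁻¹ * (QuotientGroup.mk x)⁻¹) ^ q ^ n = 1 := by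
      intro c
      obtain ⟨g, rfl⟩ := QuotientGroup.mk_surjective c
      obtain ⟨n, hn⟩ := hd g
      exact ⟨n, by simpa using congrArg (QuotientGroup.mk' L) hn⟩
    have hres := ih _ hlt inferInstance hx' hd' rfl
    have hg' : (QuotientGroup.mk g : H ⧸ L) ∈ commutator (H ⧸ L) := by
      rw [commutator_def, ← Subgroup.map_top_of_surjective _ hsurj, ← Subgroup.map_commutator]
      exact Subgroup.mem_map_of_mem _ (commutator_def H ▸ hg)
    obtain ⟨j, hj⟩ := hres ⟨_, hg'⟩
    refine ⟨j, (QuotientGroup.eq_one_iff _).1 ?_⟩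
    simpa using congrArg Subtype.val hj
  by_cases hK : K = ⊥
  · intro g
    obtain ⟨j, hj⟩ := quot M hkmin g g.2
    obtain ⟨v, hv⟩ : ∃ v, ((g : H) ^ q ^ j) ^ q ^ v = 1 := by
      refine ⟨(Nat.card M).factorization q, Subgroup.mem_bot.1 (hK ▸ ?_)⟩
      refine ⟨pow_mem hj _, ?_⟩
      rw [← pow_mul _ _ e, he, Nat.ordProj_mul_ordCompl_eq_self]
      exact orderOf_dvd_iff_pow_eq_one.1 (Subgroup.orderOf_dvd_natCard M hj)
    exact ⟨j + v, Subtype.ext (by rw [SubgroupClass.coe_pow, pow_add, pow_mul, hv]; rfl)⟩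
  · have hKc : K ≤ Subgroup.center H := by
      intro m hm
      refine mem_center_of_forall_conj hx fun g => ?_
      have hm' : g⁻¹ * m * g ∈ K := by simpa using hKn.conj_mem m hm g⁻¹
      set z := g⁻¹ * m * g
      obtain ⟨n, hn⟩ := hd z
      have h1 : z * x * z⁻¹ * x⁻¹ ∈ K := by
        rw [show z * x * z⁻¹ * x⁻¹ = z * (x * z⁻¹ * x⁻¹) by group]
        exact mul_mem hm' (hKn.conj_mem _ (inv_mem hm') x)
      have h2 : z * x * z⁻¹ * x⁻¹ = 1 := orderOf_eq_one_iff.1 (Nat.eq_one_of_dvd_coprimes
        (heq.pow_left n) (orderOf_dvd_of_pow_eq_one hn) (orderOf_dvd_of_pow_eq_one h1.2))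
      exact commutatorElement_eq_one_iff_commute.1 h2
    haveI : Group.IsNilpotent (commutator H) := by
      let f : commutator H →* H ⧸ K := (QuotientGroup.mk' K).comp (commutator H).subtype
      have hf : IsPGroup q f.range := by
        rintro ⟨_, g, rfl⟩
        obtain ⟨j, hj⟩ := quot K hK g g.2
        refine ⟨j, Subtype.ext ?_⟩
        show (QuotientGroup.mk (g : H) : H ⧸ K) ^ q ^ j = 1
        rw [← QuotientGroup.mk_pow, QuotientGroup.eq_one_iff]
        exact hj
      haveI := hf.isNilpotent
      refine Subgroup.isNilpotent_of_ker_le_center f.rangeRestrict ?_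
      intro g hg
      rw [MonoidHom.ker_rangeRestrict, MonoidHom.mem_ker] at hg
      exact Subgroup.mem_center_iff.2 fun w => Subtype.ext
        (Subgroup.mem_center_iff.1 (hKc ((QuotientGroup.eq_one_iff _).1 hg)) w)
    have hcl := closure_disp hx
    set T : Set (commutator H) := {s | ∃ g, (s : H) = g * x * g⁻¹ * x⁻¹}
    have h1 : IsPGroup q (Subgroup.closure T) := isPGroup_closure_of_nilpotent (by
      rintro s ⟨g, hg⟩
      obtain ⟨n, hn⟩ := hd g
      exact ⟨n, Subtype.ext (by rw [SubgroupClass.coe_pow, hg, hn]; rfl)⟩)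
    have h2 : Subgroup.closure T = ⊤ := by
      refine Subgroup.map_injective (commutator H).subtype_injective ?_
      rw [MonoidHom.map_closure, ← MonoidHom.range_eq_map, Subgroup.range_subtype]
      refine le_antisymm ((Subgroup.closure_le _).2 ?_) ?_
      · rintro _ ⟨s, -, rfl⟩; exact s.2
      · conv_lhs => rw [← hcl]
        refine Subgroup.closure_mono ?_
        rintro _ ⟨g, rfl⟩
        have : g * x * g⁻¹ * x⁻¹ ∈ commutator H := hcl ▸ Subgroup.subset_closure ⟨g, rfl⟩
        exact ⟨⟨_, this⟩, ⟨g, rfl⟩, rfl⟩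
    intro g
    obtain ⟨j, hj⟩ := h1 ⟨g, h2 ▸ Subgroup.mem_top g⟩
    exact ⟨j, by simpa using congrArg Subtype.val hj⟩

/-- If the derived group is not centralised by the normally generating element `x`, then a normal
`r`-subgroup of it is not centralised. -/
theorem exists_normal_moved [Finite H] (hs : Group.IsSolvable H) {x : H}
    (hx : Subgroup.normalClosure {x} = ⊤)
    (hnc : ¬ commutator H ≤ Subgroup.centralizer ({x} : Set H)) :
    ∃ r : ℕ, r.Prime ∧ ∃ Q : Subgroup H, Q.Normal ∧ IsPGroup r Q ∧ Q ≤ commutator H ∧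
      ¬ Q ≤ Subgroup.centralizer ({x} : Set H) := by
  classical
  have hex : ∃ k, derivedSeries H (k + 1) ≤ Subgroup.centralizer ({x} : Set H) := by
    obtain ⟨k, hk⟩ := hs.solvable
    exact ⟨k, le_trans (derivedSeries_antitone H (Nat.le_succ k)) (hk ▸ bot_le)⟩
  have hk := Nat.find_spec hex
  have hk1 : Nat.find hex ≠ 0 := fun h => hnc (by rw [h] at hk; simpa using hk)
  have hkmin := Nat.find_min hex (Nat.sub_lt (Nat.pos_of_ne_zero hk1) one_pos)
  rw [Nat.sub_add_cancel (Nat.one_le_iff_ne_zero.2 hk1)] at hkmin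
  generalize Nat.find hex = k at hk hk1 hkmin
  set R := derivedSeries H k with hR
  haveI : R.Normal := derivedSeries_normal H k
  have hcen : derivedSeries H (k + 1) ≤ Subgroup.center H := fun z hz =>
    mem_center_of_forall_conj hx fun g => Subgroup.mem_centralizer_singleton_iff.1
      (hk (by simpa using (derivedSeries_normal H (k + 1)).conj_mem z hz g⁻¹))
  haveI : Group.IsNilpotent R := by
    haveI : Group.IsNilpotent (Abelianization R) := CommGroup.isNilpotent
    refine Subgroup.isNilpotent_of_ker_le_center (Abelianization.of (G := R)) ?_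
    rw [Abelianization.ker_of]
    intro z hz
    refine Subgroup.mem_center_iff.2 fun w => Subtype.ext
      (Subgroup.mem_center_iff.1 (hcen ?_) w)
    rw [derivedSeries_succ, ← hR]
    have := Subgroup.mem_map_of_mem R.subtype hz
    rwa [commutator_def, Subgroup.map_commutator, ← MonoidHom.range_eq_map,
      Subgroup.range_subtype] at this
  by_contra hne
  apply hkmin
  set C := (Subgroup.centralizer ({x} : Set H)).subgroupOf R with hC
  have hidx : C.index = 1 := by
    by_contra h1
    obtain ⟨r, hr, hrd⟩ := Nat.exists_prime_and_dvd h1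
    haveI := Fact.mk hr
    obtain ⟨P⟩ := (inferInstance : Nonempty (Sylow r R))
    haveI hPn : (P : Subgroup R).Normal := by
      have := (Group.isNilpotent_of_finite_tfae (G := R)).out 0 3
      exact this.1 inferInstance r inferInstance P
    haveI : (P : Subgroup R).Characteristic := P.characteristic_of_normal hPn
    have hQn : ((P : Subgroup R).map R.subtype).Normal := inferInstance
    have hle : (P : Subgroup R).map R.subtype ≤ Subgroup.centralizer ({x} : Set H) := by
      by_contra hQ
      exact hne ⟨r, hr, _, hQn, P.isPGroup'.map _, le_trans (Subgroup.map_subtype_le _)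
        (derivedSeries_one H ▸ derivedSeries_antitone H (Nat.one_le_iff_ne_zero.2 hk1)), hQ⟩
    have hPC : (P : Subgroup R) ≤ C := Subgroup.map_le_iff_le_comap.1 hle
    exact P.not_dvd_index (hrd.trans (Subgroup.index_dvd_of_le hPC))
  exact Subgroup.subgroupOf_eq_top.1 (Subgroup.index_eq_one.1 hidx)

end Cfsg.Agent.H73.PairGen
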