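import Cfsg.Agent.H73.PairGen.NilAut
import Cfsg.Agent.H73.PairGen.Conj

/-!
# Automorphisms of `q`-power order commuting with an anisotropic automorphism
-/

set_option linter.style.haveILetI false
set_option linter.unusedSectionVars false

namespace Cfsg.Agent.H73.PairGen

open scoped commutatorElement

universe u

variable {N : Type u} [Group N]

theorem eq_one_of_periodic_aut [Finite N] {q : ℕ} [Fact q.Prime] (hN : IsPGroup q N)
    (hcomm : ∀ a b : N, Commute a b) (c : MulAut N) (hc : ∃ m, c ^ q ^ m = 1) {n : ℕ} (hn : 0 < n)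
    {v : N} (hv : (fun a => a⁻¹ * c a)^[n] v = v) : v = 1 := by
  let f : N →* N := MonoidHom.mk' (fun a => a⁻¹ * c a) fun a b => by
    rw [mul_inv_rev, map_mul, mul_assoc, ← mul_assoc a⁻¹, ← mul_assoc b⁻¹,
      (hcomm b⁻¹ (a⁻¹ * c a)).eq, mul_assoc]
  have hfc : ∀ a, f (c a) = c (f a) := fun a => by
    show (c a)⁻¹ * c (c a) = c (a⁻¹ * c a)
    rw [map_mul, map_inv]
  let P : Subgroup N :=
    { carrier := {a | (f^[n]) a = a}
      one_mem' := iterate_map_one f n
      mul_mem' := fun {a b} ha hb => by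
        show (f^[n]) (a * b) = a * b
        rw [iterate_map_mul, show (f^[n]) a = a from ha, show (f^[n]) b = b from hb]
      inv_mem' := fun {a} ha => by
        show (f^[n]) a⁻¹ = a⁻¹
        rw [iterate_map_inv, show (f^[n]) a = a from ha] }
  by_contra hv1
  have hPne : P ≠ ⊥ := fun h => hv1 (Subgroup.mem_bot.1 (h ▸ (show v ∈ P from hv)))
  have hcP : ∀ a ∈ P, c a ∈ P := fun a ha => by
    show (f^[n]) (c a) = c a
    have hs : Function.Semiconj c f f := fun a => (hfc a).symm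
    rw [← (hs.iterate_right n).eq a]
    exact congrArg c ha
  set C := Subgroup.zpowers c
  have hCP : ∀ d ∈ C, ∀ a ∈ P, d a ∈ P := by
    intro d hd a ha
    have hd' : d ∈ Submonoid.powers c := (isOfFinOrder_of_finite c).mem_powers_iff_mem_zpowers.2 hd
    obtain ⟨k, rfl⟩ := hd'
    clear hd
    induction k with
    | zero => simpa using ha
    | succ k ih => show (c ^ (k + 1)) a ∈ P; rw [pow_succ', MulAut.mul_apply]; exact hcP _ ih
  letI : MulAction C P :=
    { smul := fun d a => ⟨(d : MulAut N) a, hCP _ d.2 _ a.2⟩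
      one_smul := fun a => rfl
      mul_smul := fun d e a => rfl }
  obtain ⟨m, hm⟩ := hc
  have hC : IsPGroup q C := by
    rintro ⟨d, hd⟩
    obtain ⟨k, rfl⟩ := Subgroup.mem_zpowers_iff.1 hd
    refine ⟨m, Subtype.ext ?_⟩
    show (c ^ k) ^ q ^ m = 1
    rw [← zpow_natCast, ← zpow_mul, mul_comm k, zpow_mul, zpow_natCast, hm, one_zpow]
  have hdvd : q ∣ Nat.card P := by
    haveI : Nontrivial P := (Subgroup.nontrivial_iff_ne_bot P).2 hPne
    obtain ⟨k, hk, he⟩ := (hN.to_subgroup P).nontrivial_iff_card.1 inferInstance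
    rw [he]
    exact dvd_pow_self q hk.ne'
  obtain ⟨b, hb, hb1⟩ := hC.exists_fixed_point_of_prime_dvd_card_of_fixed_point P hdvd
    (a := 1) (fun d => Subtype.ext (map_one (d : MulAut N)))
  refine hb1 (Subtype.ext ?_)
  have h1 : f (b : N) = 1 := by
    have := congrArg Subtype.val (hb ⟨c, Subgroup.mem_zpowers c⟩)
    show (b : N)⁻¹ * c b = 1
    rw [show c (b : N) = b from this, inv_mul_cancel]
  obtain ⟨k, rfl⟩ := Nat.exists_eq_succ_of_ne_zero hn.ne'
  have h2 : (f^[k + 1]) (b : N) = b := b.2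
  rw [Function.iterate_succ_apply, h1, iterate_map_one] at h2
  exact h2

/-- If `c` is a `q`-element commuting with `φ` and `τ`, and acts quadratically on the fixed points
of both, then it is trivial. -/
theorem aut_eq_one [Finite N] {q : ℕ} [Fact q.Prime] (hq : q ≠ 2) (hN : IsPGroup q N)
    (φ τ c : MulAut N) (hS : Subgroup.closure (dS φ) = ⊤) (hcen : fx φ ≤ Subgroup.center N)
    (hder : commutator N ≤ fx φ) (han : Aniso φ) (hτ : τ * τ = 1) (hτφ : Commute τ φ)
    (hcφ : Commute c φ) (hcτ : Commute c τ) (hc : ∃ m, c ^ q ^ m = 1)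
    (hquad : ∀ z, φ z = z → τ z = z → c (z⁻¹ * c z) = z⁻¹ * c z) : ∀ y, c y = y := by
  have hodd : ∀ y : N, Odd (orderOf y) := fun y => by
    obtain ⟨k, hk⟩ := IsPGroup.iff_orderOf.1 hN y
    rw [hk]
    exact ((Fact.out : q.Prime).odd_of_ne_two hq).pow
  haveI : (fx φ).Normal := ⟨fun a ha g => by
    rwa [Subgroup.mem_center_iff.1 (hcen ha) g, mul_inv_cancel_right]⟩
  have inv' : ∀ e : MulAut N, Commute e φ → (fx φ).map (e : N →* N) = fx φ := fun e he => by
    refine Subgroup.eq_of_le_of_card_ge ?_ (Subgroup.card_map_of_injective e.injective).ge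
    rintro _ ⟨z, hz, rfl⟩
    show φ (e z) = e z
    rw [← MulAut.mul_apply, ← he.eq, MulAut.mul_apply, show φ z = z from hz]
  have hmem : ∀ e : MulAut N, Commute e φ → ∀ z ∈ fx φ, e z ∈ fx φ := fun e he z hz =>
    (inv' e he).le (Subgroup.mem_map_of_mem _ hz)
  have hcommV : ∀ a b : N ⧸ fx φ, Commute a b := by
    intro a b
    obtain ⟨a, rfl⟩ := QuotientGroup.mk_surjective a
    obtain ⟨b, rfl⟩ := QuotientGroup.mk_surjective b
    show (QuotientGroup.mk (a * b) : N ⧸ fx φ) = QuotientGroup.mk (b * a)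
    rw [QuotientGroup.eq]
    refine hder ?_
    rw [commutator_def, show (a * b)⁻¹ * (b * a) = ⁅b⁻¹, a⁻¹⁆ by
      simp only [commutatorElement_def]; group]
    exact Subgroup.commutator_mem_commutator (Subgroup.mem_top _) (Subgroup.mem_top _)
  set C := quotAut c _ (inv' c hcφ) with hCdef
  set T := quotAut τ _ (inv' τ hτφ) with hTdef
  obtain ⟨m, hm⟩ := hc
  have hCm : C ^ q ^ m = 1 := MulEquiv.ext fun v => by
    obtain ⟨a, rfl⟩ := QuotientGroup.mk_surjective v
    rw [quotAut_pow_mk, hm]; rfl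
  have hT2 : ∀ v, T (T v) = v := fun v => by
    obtain ⟨a, rfl⟩ := QuotientGroup.mk_surjective v
    rw [quotAut_mk, quotAut_mk, ← MulAut.mul_apply, hτ]; rfl
  have hTC : ∀ v, T (C v) = C (T v) := fun v => by
    obtain ⟨a, rfl⟩ := QuotientGroup.mk_surjective v
    simp only [hCdef, hTdef, quotAut_mk, ← MulAut.mul_apply, hcτ.eq]
  let δ : N ⧸ fx φ →* N ⧸ fx φ := MonoidHom.mk' (fun a => a⁻¹ * C a) fun a b => by
    rw [mul_inv_rev, map_mul, mul_assoc, ← mul_assoc a⁻¹, ← mul_assoc b⁻¹,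
      (hcommV b⁻¹ (a⁻¹ * C a)).eq, mul_assoc]
  -- `c` is trivial on the quotient by the fixed points
  have step : ∀ v, δ v = 1 := by
    by_contra hne
    simp only [not_forall] at hne
    obtain ⟨v, hv⟩ := hne
    set U := {w : N ⧸ fx φ | (T w = w ∨ T w = w⁻¹) ∧ δ w ≠ 1} with hU
    have hUne : ∃ w, w ∈ U := by
      by_contra hU'
      simp only [not_exists, hU, Set.mem_ofPred_eq, not_and, not_not] at hU'
      have h1 := hU' (v * T v) (Or.inl (by rw [map_mul, hT2]; exact (hcommV _ _).eq))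
      have h2 := hU' (v * (T v)⁻¹) (Or.inr (by
        rw [map_mul, map_inv, hT2, mul_inv_rev, inv_inv]))
      have h3 : δ v * δ v = 1 := by
        have := congrArg₂ (· * ·) h1 h2
        simp only [one_mul, ← map_mul] at this
        rw [show v * T v * (v * (T v)⁻¹) = v * v by
          rw [(hcommV v (T v)⁻¹).eq, mul_assoc, mul_inv_cancel_left]] at this
        rwa [← map_mul]
      refine hv (orderOf_eq_one_iff.1 ?_)
      obtain ⟨k, hk⟩ := IsPGroup.iff_orderOf.1 (hN.to_quotient (fx φ)) (δ v)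
      have h4 : orderOf (δ v) ∣ 2 := orderOf_dvd_of_pow_eq_one (by rw [sq]; exact h3)
      have h5 : Odd (orderOf (δ v)) := hk ▸ ((Fact.out : q.Prime).odd_of_ne_two hq).pow
      rcases (Nat.dvd_prime Nat.prime_two).1 h4 with h | h
      · exact h
      · rw [h] at h5; exact absurd h5 (by decide)
    obtain ⟨w, hw, hw'⟩ : ∃ w ∈ U, δ w ∉ U := by
      by_contra hcl
      simp only [not_exists, not_and, not_not] at hcl
      obtain ⟨w, hw⟩ := hUne
      have hit : ∀ k, (δ^[k]) w ∈ U := fun k => by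
        induction k with
        | zero => exact hw
        | succ k ih => rw [Function.iterate_succ_apply']; exact hcl _ ih
      obtain ⟨i, j, hij, he⟩ := Finite.exists_ne_map_eq_of_infinite fun k => (δ^[k]) w
      wlog hlt : i < j generalizing i j
      · exact this j i hij.symm he.symm (by omega)
      have hper : (δ^[j - i]) ((δ^[i]) w) = (δ^[i]) w := by
        rw [← Function.iterate_add_apply, Nat.sub_add_cancel hlt.le]
        exact he.symm
      have h0 := eq_one_of_periodic_aut (hN.to_quotient (fx φ)) hcommV C ⟨m, hCm⟩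
        (Nat.sub_pos_of_lt hlt) hper
      have := (hit i).2
      rw [h0, map_one] at this
      exact this rfl
    obtain ⟨y, rfl⟩ := QuotientGroup.mk_surjective w
    set d := y⁻¹ * c y with hd
    set e := d⁻¹ * c d with he
    have hdq : δ (QuotientGroup.mk y) = QuotientGroup.mk d := rfl
    have hdfx : d ∉ fx φ := fun h => hw.2 (hdq.trans ((QuotientGroup.eq_one_iff d).2 h))
    have hTd : T (δ (QuotientGroup.mk y)) = δ (QuotientGroup.mk y) ∨
        T (δ (QuotientGroup.mk y)) = (δ (QuotientGroup.mk y))⁻¹ := by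
      have hTδ : ∀ u, T (δ u) = δ (T u) := fun u => by
        show T (u⁻¹ * C u) = (T u)⁻¹ * C (T u)
        rw [map_mul, map_inv, hTC]
      rcases hw.1 with h | h
      · left; rw [hTδ, h]
      · right; rw [hTδ, h, map_inv]
    have hefx : e ∈ fx φ := by
      rw [← QuotientGroup.eq_one_iff]
      by_contra hne
      exact hw' ⟨hTd, fun h => hne h⟩
    refine hdfx (by_contra fun hmoved => ?_)
    obtain ⟨i, j, hij⟩ := han d hmoved
    refine hij (commutatorElement_eq_one_iff_commute.1 ?_)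
    set a := (φ ^ i) y
    set b := (φ ^ j) y
    set u := (φ ^ i) d
    set v := (φ ^ j) d
    have hcpow : ∀ (n : ℕ) (z : N), c ((φ ^ n) z) = (φ ^ n) (c z) := fun n z => by
      rw [← MulAut.mul_apply, (hcφ.pow_right n).eq, MulAut.mul_apply]
    have hca : c a = a * u := by
      rw [hcpow, ← map_mul, hd, mul_inv_cancel_left]
    have hcb : c b = b * v := by
      rw [hcpow, ← map_mul, hd, mul_inv_cancel_left]
    have hcu : c u = u * e := by
      rw [hcpow, show c d = d * e by rw [he, mul_inv_cancel_left], map_mul,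
        pow_apply_fixed hefx]
    have hcv : c v = v * e := by
      rw [hcpow, show c d = d * e by rw [he, mul_inv_cancel_left], map_mul,
        pow_apply_fixed hefx]
    have hβ : ∀ x z : N, ⁅x, z⁆ ∈ fx φ := fun x z => hder (by
      rw [commutator_def]
      exact Subgroup.commutator_mem_commutator (Subgroup.mem_top _) (Subgroup.mem_top _))
    have hβc : ∀ x z : N, ⁅x, z⁆ ∈ Subgroup.center N := fun x z => hcen (hβ x z)
    have hbl : ∀ x z w : N, ⁅x * z, w⁆ = ⁅x, w⁆ * ⁅z, w⁆ := fun x z w =>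
      commutator_mul_left (hβc z w)
    have hbr : ∀ x z w : N, ⁅x, z * w⁆ = ⁅x, z⁆ * ⁅x, w⁆ := fun x z w =>
      commutator_mul_right (hβc x w)
    have hle : ∀ w : N, ⁅e, w⁆ = 1 := fun w => commutatorElement_eq_one_iff_commute.2
      (Subgroup.mem_center_iff.1 (hcen hefx) w).symm
    have hre : ∀ w : N, ⁅w, e⁆ = 1 := fun w => commutatorElement_eq_one_iff_commute.2
      (Subgroup.mem_center_iff.1 (hcen hefx) w)
    have hcm : ∀ x z w : N, Commute ⁅x, z⁆ w := fun x z w =>
      (Subgroup.mem_center_iff.1 (hβc x z) w).symm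
    have hinvβ : ∀ z w : N, ⁅z⁻¹, w⁆ = ⁅z, w⁆⁻¹ := fun z w => by
      have := hbl z⁻¹ z w
      rw [inv_mul_cancel, commutatorElement_one_left] at this
      exact eq_inv_of_mul_eq_one_left this.symm
    have hinvβr : ∀ z w : N, ⁅z, w⁻¹⁆ = ⁅z, w⁆⁻¹ := fun z w => by
      have := hbr z w⁻¹ w
      rw [inv_mul_cancel, commutatorElement_one_right] at this
      exact eq_inv_of_mul_eq_one_left this.symm
    have hτβ : τ ⁅a, b⁆ = ⁅a, b⁆ := by
      have hτpow : ∀ (n : ℕ) (z : N), τ ((φ ^ n) z) = (φ ^ n) (τ z) := fun n z => by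
        rw [← MulAut.mul_apply, (hτφ.pow_right n).eq, MulAut.mul_apply]
      rw [map_commutatorElement, hτpow, hτpow]
      rcases hw.1 with h | h
      · rw [quotAut_mk, QuotientGroup.eq] at h
        obtain ⟨z, hz, e1⟩ : ∃ z ∈ fx φ, τ y = y * z :=
          ⟨((τ y)⁻¹ * y)⁻¹, inv_mem h, by group⟩
        have hz1 : ∀ w : N, ⁅z, w⁆ = 1 := fun w => commutatorElement_eq_one_iff_commute.2
          (Subgroup.mem_center_iff.1 (hcen hz) w).symm
        have hz2 : ∀ w : N, ⁅w, z⁆ = 1 := fun w => commutatorElement_eq_one_iff_commute.2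
          (Subgroup.mem_center_iff.1 (hcen hz) w)
        rw [e1, map_mul, map_mul, pow_apply_fixed hz, pow_apply_fixed hz, hbl, hbr, hz1, hz2,
          mul_one, mul_one]
      · rw [quotAut_mk, ← QuotientGroup.mk_inv, QuotientGroup.eq] at h
        obtain ⟨z, hz, e1⟩ : ∃ z ∈ fx φ, τ y = y⁻¹ * z :=
          ⟨((τ y)⁻¹ * y⁻¹)⁻¹, inv_mem h, by group⟩
        have hz1 : ∀ w : N, ⁅z, w⁆ = 1 := fun w => commutatorElement_eq_one_iff_commute.2
          (Subgroup.mem_center_iff.1 (hcen hz) w).symm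
        have hz2 : ∀ w : N, ⁅w, z⁆ = 1 := fun w => commutatorElement_eq_one_iff_commute.2
          (Subgroup.mem_center_iff.1 (hcen hz) w)
        rw [e1, map_mul, map_mul, map_inv, map_inv, pow_apply_fixed hz, pow_apply_fixed hz, hbl,
          hbr, hz1, hz2, mul_one, mul_one, hinvβ, hinvβr, inv_inv]
    have h1 : ⁅a, b⁆⁻¹ * c ⁅a, b⁆ = ⁅a, v⁆ * (⁅u, b⁆ * ⁅u, v⁆) := by
      rw [map_commutatorElement, hca, hcb, hbl, hbr, hbr]
      group
    have h2 := hquad _ (hβ a b) hτβ
    rw [h1, map_mul, map_mul, map_commutatorElement, map_commutatorElement,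
      map_commutatorElement, hca, hcb, hcu, hcv] at h2
    simp only [hbl, hbr, hle, hre, mul_one] at h2
    have h3 : ⁅a, v⁆ * (⁅u, b⁆ * ⁅u, v⁆) * (⁅u, v⁆ * ⁅u, v⁆) = ⁅a, v⁆ * (⁅u, b⁆ * ⁅u, v⁆) := by
      calc _ = ⁅a, v⁆ * ⁅u, v⁆ * (⁅u, b⁆ * ⁅u, v⁆ * ⁅u, v⁆) := by
            have k1 := (hcm u v (⁅u, b⁆ * ⁅u, v⁆ * ⁅u, v⁆)).eq
            rw [mul_assoc ⁅a, v⁆ ⁅u, v⁆, k1]
            group
        _ = _ := by simpa only [mul_assoc] using h2
    exact eq_one_of_sq (hodd _) (by rw [sq]; exact mul_eq_left.1 h3)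
  have hε : ∀ y, y⁻¹ * c y ∈ fx φ := fun y =>
    (QuotientGroup.eq_one_iff _).1 (step (QuotientGroup.mk y))
  let ε : N →* N := MonoidHom.mk' (fun y => y⁻¹ * c y) fun a b => by
    rw [map_mul, mul_inv_rev, mul_assoc, ← mul_assoc a⁻¹, ← mul_assoc b⁻¹,
      Subgroup.mem_center_iff.1 (hcen (hε a)) b⁻¹, mul_assoc]
  have hker : Subgroup.closure (dS φ) ≤ ε.ker := by
    rw [Subgroup.closure_le]
    rintro _ ⟨y, rfl⟩
    rw [SetLike.mem_coe, MonoidHom.mem_ker, map_mul, map_inv, inv_mul_eq_one]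
    show y⁻¹ * c y = (φ y)⁻¹ * c (φ y)
    rw [show c (φ y) = φ (c y) from congrArg (fun e : MulAut N => e y) hcφ.eq, ← map_inv, ← map_mul]
    exact (mem_fx.1 (hε y)).symm
  intro y
  have : y⁻¹ * c y = 1 := hker (hS ▸ Subgroup.mem_top y)
  rwa [inv_mul_eq_one, eq_comm] at this

end Cfsg.Agent.H73.PairGen
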