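import Cfsg.Agent.H73.PairGen.Pairs
import Cfsg.Agent.H73.PairGen.Key

/-!
# Solvable subgroups generated by members
-/

set_option linter.style.haveILetI false
set_option linter.unusedSectionVars false

namespace Cfsg.Agent.H73.PairGen

open scoped commutatorElement

universe u

variable {G : Type u} [Group G]

/-- Conjugation by an element normalising `N`, as an automorphism of `N`. -/
def cAut (N : Subgroup G) (g : G) (h : cj g N = N) : MulAut N where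
  toFun n := ⟨g * n * g⁻¹, h.le (conj_mem_cj n.2)⟩
  invFun n := ⟨g⁻¹ * n * g, mem_cj.1 (h.ge n.2)⟩
  left_inv n := Subtype.ext (by simp [mul_assoc])
  right_inv n := Subtype.ext (by simp [mul_assoc])
  map_mul' a b := Subtype.ext (by simp [mul_assoc])

@[simp] theorem coe_cAut {N : Subgroup G} {g : G} {h : cj g N = N} (n : N) :
    (cAut N g h n : G) = g * n * g⁻¹ := rfl

theorem coe_cAut_pow {N : Subgroup G} {g : G} {h : cj g N = N} : ∀ (i : ℕ) (n : N),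
    ((cAut N g h ^ i) n : G) = g ^ i * n * (g ^ i)⁻¹
  | 0, n => by simp
  | i + 1, n => by
    rw [pow_succ, MulAut.mul_apply, coe_cAut_pow i, coe_cAut, pow_succ]
    group

theorem cAut_pow_eq_one {N : Subgroup G} {g : G} {h : cj g N = N} {i : ℕ} (hg : g ^ i = 1) :
    cAut N g h ^ i = 1 :=
  MulEquiv.ext fun n => Subtype.ext (by rw [coe_cAut_pow, hg]; simp)

theorem cAut_commute {N : Subgroup G} {g k : G} {h : cj g N = N} {h' : cj k N = N}
    (hc : Commute g k) : Commute (cAut N g h) (cAut N k h') :=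
  MulEquiv.ext fun n => Subtype.ext (by
    show g * (k * n * k⁻¹) * g⁻¹ = k * (g * n * g⁻¹) * k⁻¹
    calc g * (k * n * k⁻¹) * g⁻¹ = g * k * n * (g * k)⁻¹ := by group
      _ = _ := by rw [hc.eq]; group)

variable {p q : ℕ} {D : Set (Subgroup G)}

/-- `NotAb`: some pair has a nonabelian derived group; then all do. -/
theorem Hyp.noncomm_der (hyp : Hyp p D) (hab : ¬ AbPairs D) {A B : Subgroup G} (hA : A ∈ D)
    (hB : B ∈ D) (hAB : A ≠ B) : ¬ ∀ u ∈ ⁅A ⊔ B, A ⊔ B⁆, ∀ v ∈ ⁅A ⊔ B, A ⊔ B⁆, Commute u v := by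
  intro h
  refine hab fun C hC E hE hCE u hu v hv => ?_
  obtain ⟨e⟩ := hyp.iso A hA B hB C hC E hE hAB hCE
  obtain ⟨u', hu', rfl⟩ := mem_commutator_subgroup.1 hu
  obtain ⟨v', hv', rfl⟩ := mem_commutator_subgroup.1 hv
  have h1 : Commute (e.symm u') (e.symm v') := Subtype.ext
    (h _ (mem_commutator_subgroup.2 ⟨_, mem_commutator_equiv e hu', rfl⟩) _
      (mem_commutator_subgroup.2 ⟨_, mem_commutator_equiv e hv', rfl⟩)).eq
  have h2 := h1.map e.toMonoidHom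
  simp only [MulEquiv.coe_toMonoidHom, MulEquiv.apply_symm_apply] at h2
  exact congrArg Subtype.val h2.eq

namespace QHyp

variable (hyp : QHyp q p D) [Finite G] {A H : Subgroup G} (hH : Gen D H)
  (hs : Group.IsSolvable H) (hA : A ∈ D) (hAH : A ≤ H) {x : G} (hx : x ∈ A) (hx1 : x ≠ 1)
include hyp hH hs hA hAH hx hx1

theorem commute_of_fixed_mem {n : G} (hn : n ∈ ⁅H, H⁆) (h : cj n A = A) : Commute n x := by
  have h1 : n * x * n⁻¹ * x⁻¹ ∈ A := mul_mem (h ▸ conj_mem_cj hx) (inv_mem hx)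
  have h2 : n * x * n⁻¹ * x⁻¹ ∈ ⁅H, H⁆ := by
    rw [← commutatorElement_def]
    exact Subgroup.commutator_mem_commutator (commutator_self_le H hn) (hAH hx)
  exact commutatorElement_eq_one_iff_commute.1 (hyp.inf_commutator hH hs hA hAH h1 h2)

theorem disp_mem {g : G} (hg : g ∈ H) (hne : cj g A ≠ A) :
    g * x * g⁻¹ * x⁻¹ ∈ ⁅A ⊔ cj g A, A ⊔ cj g A⁆ := by
  have hB := hyp.conj A hA g
  set L := A ⊔ cj g A
  obtain ⟨f, hf, he⟩ := hyp.exists_conj_mem hA hB le_sup_left le_sup_right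
  have hfH : f ∈ H := sup_le hAH (cj_le_of_mem hAH hg) hf
  set e := g * x * g⁻¹ * (f * x * f⁻¹)⁻¹ with hedef
  have h1 : e ∈ cj g A := mul_mem (conj_mem_cj hx) (inv_mem (he ▸ conj_mem_cj hx))
  have h2 : e ∈ ⁅H, H⁆ := by
    rw [show e = ⁅g, x⁆ * ⁅f, x⁆⁻¹ by rw [hedef]; simp only [commutatorElement_def]; group]
    exact mul_mem (Subgroup.commutator_mem_commutator hg (hAH hx))
      (inv_mem (Subgroup.commutator_mem_commutator hfH (hAH hx)))
  have h3 := hyp.inf_commutator hH hs hB (cj_le_of_mem hAH hg) h1 h2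
  rw [hedef, mul_inv_eq_one] at h3
  rw [h3, ← commutatorElement_def]
  exact Subgroup.commutator_mem_commutator hf (Subgroup.mem_sup_left hx)

theorem cj_x_commutator : cj x ⁅H, H⁆ = ⁅H, H⁆ := hyp.cj_gen_eq (hAH hx)

theorem pgroup : IsPGroup q ↥⁅H, H⁆ := by
  haveI := Fact.mk hyp.qprime
  rw [← isPGroup_commutator_iff]
  refine isPGroup_commutator_of_disp hs (hyp.normalClosure_gen hH hA hAH hx hx1) fun g => ?_
  by_cases h : cj (g : G) A = A
  · refine ⟨0, ?_⟩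
    have h1 : (g : G) * x * (g : G)⁻¹ * x⁻¹ ∈ A := mul_mem (h ▸ conj_mem_cj hx) (inv_mem hx)
    have h2 : (g : G) * x * (g : G)⁻¹ * x⁻¹ ∈ ⁅H, H⁆ := by
      rw [← commutatorElement_def]
      exact Subgroup.commutator_mem_commutator g.2 (hAH hx)
    rw [pow_zero, pow_one]
    exact Subtype.ext (hyp.inf_commutator hH hs hA hAH h1 h2)
  · obtain ⟨k, hk⟩ := hyp.qgroup A hA _ (hyp.conj A hA g) (Ne.symm h)
      ⟨_, hyp.disp_mem hH hs hA hAH hx hx1 g.2 h⟩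
    exact ⟨k, Subtype.ext (by simpa using congrArg Subtype.val hk)⟩

theorem closure_dS :
    Subgroup.closure (dS (cAut ⁅H, H⁆ x (hyp.cj_x_commutator hH hs hA hAH hx hx1))) = ⊤ := by
  set φ := cAut ⁅H, H⁆ x (hyp.cj_x_commutator hH hs hA hAH hx hx1)
  refine Subgroup.map_injective (⁅H, H⁆ : Subgroup G).subtype_injective ?_
  rw [← MonoidHom.range_eq_map, Subgroup.range_subtype]
  refine le_antisymm (Subgroup.map_subtype_le _) ?_
  conv_lhs => rw [← map_subtype_commutator, ← closure_disp (hyp.normalClosure_gen hH hA hAH hx hx1),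
    MonoidHom.map_closure]
  rw [Subgroup.closure_le]
  rintro _ ⟨_, ⟨g, rfl⟩, rfl⟩
  obtain ⟨n, hn, a, ha, e⟩ := hyp.exists_mul' hH hA hAH g.2
  refine ⟨(⟨n⁻¹, inv_mem hn⟩ : ↥⁅H, H⁆)⁻¹ * φ ⟨n⁻¹, inv_mem hn⟩,
    Subgroup.subset_closure ⟨_, rfl⟩, ?_⟩
  show (n⁻¹)⁻¹ * (x * n⁻¹ * x⁻¹) = (g : G) * x * (g : G)⁻¹ * x⁻¹
  rw [← e, show n * a * x * (n * a)⁻¹ * x⁻¹ = n * (a * x) * a⁻¹ * n⁻¹ * x⁻¹ by group,
    (hyp.comm_in hA ha hx).eq]
  group

theorem dS_cases (y : ↥⁅H, H⁆) :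
    (let φ := cAut ⁅H, H⁆ x (hyp.cj_x_commutator hH hs hA hAH hx hx1)
    y⁻¹ * φ y = 1 ∨ ∃ B ∈ D, A ≠ B ∧ B = cj (y : G)⁻¹ A ∧
      ((y⁻¹ * φ y : ↥⁅H, H⁆) : G) ∈ ⁅A ⊔ B, A ⊔ B⁆) := by
  intro φ
  by_cases h : cj (y : G)⁻¹ A = A
  · left
    have hc := (hyp.commute_of_fixed_mem hH hs hA hAH hx hx1 (inv_mem y.2) h).inv_left
    rw [inv_inv] at hc
    refine Subtype.ext ?_
    show (y : G)⁻¹ * (x * (y : G) * x⁻¹) = 1
    rw [← hc.eq]; group
  · right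
    refine ⟨_, hyp.conj A hA _, Ne.symm h, rfl, ?_⟩
    have := hyp.disp_mem hH hs hA hAH hx hx1 (inv_mem (commutator_self_le H y.2)) h
    show (y : G)⁻¹ * (x * (y : G) * x⁻¹) ∈ _
    simpa [mul_assoc] using this

theorem ab_trivial (hab : AbPairs D) {z : G} (hz : z ∈ ⁅H, H⁆) (hc : Commute z x) : z = 1 := by
  haveI := Fact.mk hyp.qprime
  set φ := cAut ⁅H, H⁆ x (hyp.cj_x_commutator hH hs hA hAH hx hx1) with hφ
  refine congrArg Subtype.val (fixed_eq_one (hyp.pgroup hH hs hA hAH hx hx1)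
    (hyp.prime.odd_of_ne_two hyp.ne_two) φ (cAut_pow_eq_one (hyp.pow_p hA hx))
    (hyp.closure_dS hH hs hA hAH hx hx1) ?_ (y := ⟨z, hz⟩) (Subtype.ext ?_))
  · rintro _ ⟨y, rfl⟩
    rcases hyp.dS_cases hH hs hA hAH hx hx1 y with h | ⟨B, hB, hAB, -, h⟩
    · show Commute (y⁻¹ * φ y) (φ (y⁻¹ * φ y))
      rw [show y⁻¹ * φ y = 1 from h]
      exact Commute.one_left _
    · refine Subtype.ext (hab A hA B hB hAB _ h _ ?_)
      show x * _ * x⁻¹ ∈ _
      rw [← hyp.cj_gen_eq (Subgroup.mem_sup_left hx : x ∈ A ⊔ B)]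
      exact conj_mem_cj h
  · show x * z * x⁻¹ = z
    rw [← hc.eq, mul_inv_cancel_right]

theorem aniso_dS (hab : ¬ AbPairs D) (y : ↥⁅H, H⁆) :
    (let φ := cAut ⁅H, H⁆ x (hyp.cj_x_commutator hH hs hA hAH hx hx1)
    y⁻¹ * φ y ≠ 1 →
      ∃ i j : ℕ, ¬ Commute ((φ ^ i) (y⁻¹ * φ y)) ((φ ^ j) (y⁻¹ * φ y))) := by
  intro φ hne
  by_contra hcon
  simp only [not_exists, not_not] at hcon
  rcases hyp.dS_cases hH hs hA hAH hx hx1 y with h | ⟨B, hB, hAB, hBy, h⟩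
  · exact hne h
  set s : ↥⁅H, H⁆ := y⁻¹ * φ y with hs'
  set Q := Subgroup.closure (Set.range fun i : ℕ => (((φ ^ i) s : ↥⁅H, H⁆) : G)) with hQ
  have hxQ : cj x Q = Q := by
    refine Subgroup.eq_of_le_of_card_ge ?_ (card_cj x Q).ge
    rw [hQ, cj, MonoidHom.map_closure]
    refine Subgroup.closure_mono ?_
    rintro _ ⟨_, ⟨i, rfl⟩, rfl⟩
    exact ⟨i + 1, by show (((φ ^ (i + 1)) s : ↥⁅H, H⁆) : G) = _; rw [pow_succ', MulAut.mul_apply]; rfl⟩
  have hAQ : A ≤ Subgroup.normalizer (Q : Set G) := by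
    rw [← hyp.zpowers_eq hA hx hx1]
    exact Subgroup.zpowers_le.2 (cj_eq_self_iff.1 hxQ)
  have hsQ : (s : G) ∈ Q := Subgroup.subset_closure ⟨0, rfl⟩
  have hBle : B ≤ A ⊔ Q := by
    rw [hBy]
    intro b hb
    rw [mem_cj, ← hyp.zpowers_eq hA hx hx1] at hb
    obtain ⟨k, hk⟩ := Subgroup.mem_zpowers_iff.1 hb
    have h1 : (y : G)⁻¹ * x * (y : G) ∈ A ⊔ Q := by
      have e : (y : G)⁻¹ * x * (y : G) = (s : G) * x := by
        show _ = (y : G)⁻¹ * (x * (y : G) * x⁻¹) * x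
        group
      rw [e]
      exact mul_mem (Subgroup.mem_sup_right hsQ) (Subgroup.mem_sup_left hx)
    have h2 : ((y : G)⁻¹ * x * ((y : G)⁻¹)⁻¹) ^ k ∈ A ⊔ Q := zpow_mem (by simpa using h1) k
    rw [conj_zpow, hk] at h2
    simpa [mul_assoc] using h2
  have hle : ⁅A ⊔ B, A ⊔ B⁆ ≤ Q :=
    le_trans (Subgroup.commutator_mono (sup_le le_sup_left hBle) (sup_le le_sup_left hBle))
      (commutator_sup_le (fun a ha b hb => hyp.comm_in hA ha hb) hAQ)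
  have hQQ : Q ≤ Subgroup.centralizer (Q : Set G) := by
    rw [hQ, Subgroup.closure_le]
    rintro _ ⟨i, rfl⟩
    rw [SetLike.mem_coe, Subgroup.mem_centralizer_iff]
    intro v hv
    have : Q ≤ Subgroup.centralizer ({(((φ ^ i) s : ↥⁅H, H⁆) : G)} : Set G) := by
      rw [hQ, Subgroup.closure_le]
      rintro _ ⟨j, rfl⟩
      rw [SetLike.mem_coe, Subgroup.mem_centralizer_singleton_iff]
      exact congrArg Subtype.val (hcon j i).eq
    exact Subgroup.mem_centralizer_singleton_iff.1 (this hv)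
  exact hyp.noncomm_der hab hA hB hAB fun u hu v hv =>
    (Subgroup.mem_centralizer_iff.1 (hQQ (hle hv)) u (hle hu))

theorem central {z : G} (hz : z ∈ ⁅H, H⁆) (hc : Commute z x) : ∀ h ∈ H, Commute z h := by
  haveI := Fact.mk hyp.qprime
  by_cases hab : AbPairs D
  · rw [hyp.ab_trivial hH hs hA hAH hx hx1 hab hz hc]
    exact fun h _ => Commute.one_left h
  have hzA : ∀ a ∈ A, Commute z a := by
    intro a ha
    rw [← hyp.zpowers_eq hA hx hx1] at ha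
    obtain ⟨k, rfl⟩ := Subgroup.mem_zpowers_iff.1 ha
    exact hc.zpow_right k
  have h1 := fx_le_center (hyp.pgroup hH hs hA hAH hx hx1)
    (cAut ⁅H, H⁆ x (hyp.cj_x_commutator hH hs hA hAH hx hx1))
    (hyp.closure_dS hH hs hA hAH hx hx1) (hyp.aniso_dS hH hs hA hAH hx hx1 hab)
    (show (⟨z, hz⟩ : ↥⁅H, H⁆) ∈ fx _ from Subtype.ext (by
      show x * z * x⁻¹ = z
      rw [← hc.eq, mul_inv_cancel_right]))
  intro h hh
  obtain ⟨n, hn, a, ha, rfl⟩ := hyp.exists_mul' hH hA hAH hh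
  exact Commute.mul_right (congrArg Subtype.val (Subgroup.mem_center_iff.1 h1 ⟨n, hn⟩)).symm
    (hzA a ha)

theorem der_commute (hab : ¬ AbPairs D) {n w : G} (hn : n ∈ ⁅H, H⁆) (hw : w ∈ ⁅H, H⁆) :
    Commute ⁅n, w⁆ x := by
  haveI := Fact.mk hyp.qprime
  have h := (commutator_le_fx (hyp.pgroup hH hs hA hAH hx hx1)
    (cAut ⁅H, H⁆ x (hyp.cj_x_commutator hH hs hA hAH hx hx1))
    (hyp.closure_dS hH hs hA hAH hx hx1) (hyp.aniso_dS hH hs hA hAH hx hx1 hab)).1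
    (show (⁅(⟨n, hn⟩ : ↥⁅H, H⁆), ⟨w, hw⟩⁆) ∈ commutator ↥⁅H, H⁆ by
      rw [commutator_def]
      exact Subgroup.commutator_mem_commutator (Subgroup.mem_top _) (Subgroup.mem_top _))
  have h2 := congrArg Subtype.val h
  rw [coe_cAut] at h2
  exact (mul_inv_eq_iff_eq_mul.1 h2).symm

theorem exists_disp_mul (hab : ¬ AbPairs D) {n : G} (hn : n ∈ ⁅H, H⁆) :
    ∃ y ∈ ⁅H, H⁆, ∃ z ∈ ⁅H, H⁆, Commute z x ∧ n = y⁻¹ * (x * y * x⁻¹) * z := by
  haveI := Fact.mk hyp.qprime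
  obtain ⟨y, z, hz, e⟩ := exists_dS_mul (hyp.pgroup hH hs hA hAH hx hx1)
    (cAut ⁅H, H⁆ x (hyp.cj_x_commutator hH hs hA hAH hx hx1))
    (hyp.closure_dS hH hs hA hAH hx hx1) (hyp.aniso_dS hH hs hA hAH hx hx1 hab) ⟨n, hn⟩
  exact ⟨y, y.2, z, z.2, (mul_inv_eq_iff_eq_mul.1 (congrArg Subtype.val hz)).symm,
    congrArg Subtype.val e⟩

/-- The key lemma. -/
theorem key (hab : ¬ AbPairs D) {t c : G} (ht : t * t = 1) (htH : cj t H = H) (htx : Commute t x)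
    (hcH : cj c H = H) (hcx : Commute c x) (hct : Commute c t) (hc : ∃ m, c ^ q ^ m = 1)
    (hquad : ∀ z ∈ ⁅H, H⁆, Commute z x → Commute t z → Commute c (z⁻¹ * (c * z * c⁻¹))) :
    ∀ h ∈ H, Commute c h := by
  haveI := Fact.mk hyp.qprime
  have htN : cj t ⁅H, H⁆ = ⁅H, H⁆ := by rw [cj_commutator, htH]
  have hcN : cj c ⁅H, H⁆ = ⁅H, H⁆ := by rw [cj_commutator, hcH]
  obtain ⟨m, hm⟩ := hc
  have hfix := hyp.closure_dS hH hs hA hAH hx hx1
  have han := hyp.aniso_dS hH hs hA hAH hx hx1 hab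
  have hN := hyp.pgroup hH hs hA hAH hx hx1
  have h := aut_eq_one hyp.qne_two hN
    (cAut ⁅H, H⁆ x (hyp.cj_x_commutator hH hs hA hAH hx hx1))
    (cAut ⁅H, H⁆ t htN) (cAut ⁅H, H⁆ c hcN) hfix (fx_le_center hN _ hfix han)
    (commutator_le_fx hN _ hfix han).1 (aniso hN _ hfix han)
    (by rw [← pow_two]; exact cAut_pow_eq_one (by rwa [pow_two]))
    (cAut_commute htx) (cAut_commute hcx) (cAut_commute hct) ⟨m, cAut_pow_eq_one hm⟩
    (fun z hzx hzt => Subtype.ext (by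
      have := hquad z z.2 (mul_inv_eq_iff_eq_mul.1 (congrArg Subtype.val hzx)).symm
        (mul_inv_eq_iff_eq_mul.1 (congrArg Subtype.val hzt))
      show c * ((z : G)⁻¹ * (c * z * c⁻¹)) * c⁻¹ = (z : G)⁻¹ * (c * z * c⁻¹)
      rw [this.eq, mul_inv_cancel_right]))
  intro g hg
  obtain ⟨n, hn, a, ha, rfl⟩ := hyp.exists_mul' hH hA hAH hg
  refine Commute.mul_right (mul_inv_eq_iff_eq_mul.1 (congrArg Subtype.val (h ⟨n, hn⟩))) ?_
  rw [← hyp.zpowers_eq hA hx hx1] at ha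
  obtain ⟨k, rfl⟩ := Subgroup.mem_zpowers_iff.1 ha
  exact hcx.zpow_right k

end QHyp

end Cfsg.Agent.H73.PairGen
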