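import Cfsg.Agent.H73.PairGen.Blocks
import Cfsg.Agent.Cores.GlaubermanZStar

/-!
# The case in which all fixed elements of `⟨D_t⟩'` are central
-/

set_option linter.style.haveILetI false
set_option linter.unusedSectionVars false

namespace Cfsg.Agent.H73.PairGen

open scoped commutatorElement

universe u

variable {G : Type u} [Group G]

theorem inv_eq_self_of_sq {t : G} (h : t * t = 1) : t⁻¹ = t := inv_eq_of_mul_eq_one_right h

theorem mul_self_of_orderOf_two {t : G} (h : orderOf t = 2) : t * t = 1 := by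
  rw [← sq, ← h, pow_orderOf_eq_one]

theorem odd_card_sup [Finite G] {N K : Subgroup G} (hN : K ≤ Subgroup.normalizer (N : Set G))
    (h1 : Odd (Nat.card N)) (h2 : Odd (Nat.card K)) : Odd (Nat.card ↥(N ⊔ K)) := by
  set S := N ⊔ K with hS
  have hSN : S ≤ Subgroup.normalizer (N : Set G) := sup_le Subgroup.le_normalizer hN
  haveI : (N.subgroupOf S).Normal := ⟨fun n hn g => by
    rw [Subgroup.mem_subgroupOf] at hn ⊢
    exact (Subgroup.mem_normalizer_iff.1 (hSN g.2) _).1 hn⟩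
  let f : K →* S ⧸ N.subgroupOf S :=
    (QuotientGroup.mk' _).comp (Subgroup.inclusion le_sup_right)
  have hf : Function.Surjective f := by
    intro c
    obtain ⟨⟨g, hg⟩, rfl⟩ := QuotientGroup.mk_surjective c
    rw [hS, sup_comm, ← SetLike.mem_coe, Subgroup.coe_mul_of_left_le_normalizer_right K N hN] at hg
    obtain ⟨k, hk, n, hn, rfl⟩ := hg
    refine ⟨⟨k, hk⟩, QuotientGroup.eq.2 (Subgroup.mem_subgroupOf.2 ?_)⟩
    show k⁻¹ * (k * n) ∈ N
    rwa [inv_mul_cancel_left]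
  rw [Subgroup.card_eq_card_quotient_mul_card_subgroup (N.subgroupOf S),
    Nat.card_congr (Subgroup.subgroupOfEquivOfLe (le_sup_left : N ≤ S)).toEquiv]
  exact (h2.of_dvd_nat (Subgroup.card_dvd_of_surjective f hf)).mul h1

/-- An involution centralising `⟨D_t⟩`. -/
def JInv (D : Set (Subgroup G)) (t j : G) : Prop :=
  orderOf j = 2 ∧ ∀ w ∈ Gc D t, Commute j w

/-- The subgroup generated by the products `j t`. -/
def EJ (D : Set (Subgroup G)) (t : G) : Subgroup G :=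
  Subgroup.closure {e | ∃ j, JInv D t j ∧ e = j * t}

/-- The subgroup `⟨D_t⟩' · E`. -/
def Om (D : Set (Subgroup G)) (t : G) : Subgroup G := ⁅Gc D t, Gc D t⁆ ⊔ EJ D t

/-- The subgroup `⟨D_t⟩' C_{b'}(x)`. -/
def WC (D : Set (Subgroup G)) (x t : G) (b : Subgroup G) : Subgroup G :=
  ⁅Gc D t, Gc D t⁆ ⊔ (⁅b, b⁆ ⊓ Subgroup.centralizer ({x} : Set G))

variable {D : Set (Subgroup G)} [Finite G] {p q : ℕ} {A : Subgroup G} {x t : G}

namespace Setup

variable (S : Setup q p D A x t)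
include S

theorem jinv_t : JInv D t t := ⟨S.invol, fun _ hw => commute_of_mem_Gc hw⟩

theorem jinv_commute_x {j : G} (hj : JInv D t j) : Commute j x := hj.2 x (S.A_le_Gc_t S.memx)

theorem le_Gc_t_iff {B : Subgroup G} (hB : B ∈ D) : B ≤ Gc D t ↔ B ∈ Fixed D t :=
  ⟨fun h => ⟨hB, fun _ hb => commute_of_mem_Gc (h hb)⟩, fun h => le_Gc hB h.2⟩

theorem fixed_eq {j : G} (hj : JInv D t j) : Fixed D j = Fixed D t := by
  have hsub : Fixed D t ⊆ Fixed D j := fun B hB =>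
    ⟨hB.1, fun b hb => hj.2 b ((S.le_Gc_t_iff hB.1).2 hB hb)⟩
  exact (Set.eq_of_subset_of_ncard_le hsub (S.max j hj.1) (Set.toFinite _)).symm

/-- An involution centralising `⟨D_t⟩` normalises every subgroup generated by members containing
it. -/
theorem jinv_normalizes {j : G} (hj : JInv D t j) {b : Subgroup G} (hb : Gen D b)
    (hle : Gc D t ≤ b) : cj j b = b := by
  have hj2 := mul_self_of_orderOf_two hj.1
  have hjA : ∀ a ∈ A, Commute j a := fun a ha => hj.2 a (S.A_le_Gc_t ha)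
  suffices h : cj j b ≤ b by
    exact le_antisymm h (by simpa [cj_cj_of_sq hj2] using cj_mono (g := j) h)
  have hb' : b ≤ cj j b := hb.le_of fun B hB hBb => by
    by_cases hfix : cj j B = B
    · exact hfix ▸ cj_mono hBb
    suffices h : cj j B ≤ b by simpa [cj_cj_of_sq hj2] using cj_mono (g := j) h
    set L := B ⊔ cj j B with hL
    have hBj := S.conj B hB j
    have hLj : cj j L = L := by rw [hL, cj_sup, cj_cj_of_sq hj2, sup_comm]
    obtain ⟨C, ⟨hC, hCL⟩, hCj⟩ := exists_fixed_of_odd_ncard (cj j) (cj_cj_of_sq hj2)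
      {C | C ∈ D ∧ C ≤ L}
      (fun C hC => ⟨S.conj C hC.1 j, hLj ▸ cj_mono hC.2⟩)
      (S.odd_ncard_le hB le_sup_left (S.odd B hB _ hBj (Ne.symm hfix)))
    have hCt : C ≤ Gc D t := by
      rw [S.le_Gc_t_iff hC, ← S.fixed_eq hj]
      exact ⟨hC, S.commute_of_fixed S.memA hC hjA hCj⟩
    have hne : B ≠ C := fun h => hfix (by rw [h]; exact hCj)
    exact (le_sup_right : cj j B ≤ L).trans
      ((S.line hB hBj hB hC (Ne.symm hfix) hne le_sup_left hCL).symm.le.trans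
        (sup_le hBb (hCt.trans hle)))
  simpa [cj_cj_of_sq hj2] using cj_mono (g := j) hb'

variable {b : Subgroup G} (hb : Block D A x b) (hle : Gc D t ≤ b) (hab : ¬ AbPairs D)
include hb hle hab

theorem W_le : ⁅Gc D t, Gc D t⁆ ≤ ⁅b, b⁆ := Subgroup.commutator_mono hle hle

theorem C_central {c : G} (hc : c ∈ ⁅b, b⁆) (hcx : Commute c x) : ∀ w ∈ b, Commute c w :=
  S.central hb.ne_top hb.gen hb.le hc hcx

theorem comm_C {n w : G} (hn : n ∈ ⁅b, b⁆) (hw : w ∈ ⁅b, b⁆) :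
    ⁅n, w⁆ ∈ ⁅b, b⁆ ∧ Commute ⁅n, w⁆ x :=
  ⟨Subgroup.commutator_mem_commutator (commutator_self_le b hn) (commutator_self_le b hw),
    S.toQHyp.der_commute hb.gen (S.solv hb.ne_top hb.gen) S.memA hb.le S.memx S.xne hab hn hw⟩

theorem mem_WC {g : G} : g ∈ WC D x t b ↔
    ∃ w ∈ ⁅Gc D t, Gc D t⁆, ∃ c, (c ∈ ⁅b, b⁆ ∧ Commute c x) ∧ w * c = g := by
  set C := ⁅b, b⁆ ⊓ Subgroup.centralizer ({x} : Set G)
  have hC : ∀ c, c ∈ C ↔ c ∈ ⁅b, b⁆ ∧ Commute c x := fun c => by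
    rw [Subgroup.mem_inf, Subgroup.mem_centralizer_singleton_iff]; rfl
  have hn : ⁅Gc D t, Gc D t⁆ ≤ Subgroup.normalizer (C : Set G) := by
    intro w hw
    rw [← cj_eq_self_iff]
    exact cj_eq_self_of_commute fun c hc =>
      (S.C_central hb hle hab ((hC c).1 hc).1 ((hC c).1 hc).2 w
        (hle (commutator_self_le _ hw))).symm
  rw [WC, ← SetLike.mem_coe, Subgroup.coe_mul_of_left_le_normalizer_right _ _ hn]
  constructor
  · rintro ⟨w, hw, c, hc, e⟩
    exact ⟨w, hw, c, (hC c).1 hc, e⟩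
  · rintro ⟨w, hw, c, hc, e⟩
    exact ⟨w, hw, c, (hC c).2 hc, e⟩

theorem WC_le : WC D x t b ≤ ⁅b, b⁆ := sup_le (S.W_le hb hle hab) inf_le_left

theorem conj_WC {y m : G} (hy : y ∈ ⁅b, b⁆) (hm : m ∈ WC D x t b) :
    y * m * y⁻¹ ∈ WC D x t b := by
  obtain ⟨w, hw, c, hc, rfl⟩ := (S.mem_WC hb hle hab).1 hm
  have h1 := S.comm_C hb hle hab hy (S.W_le hb hle hab hw)
  have h2 := S.C_central hb hle hab hc.1 hc.2 y (commutator_self_le b hy)
  have e : y * (w * c) * y⁻¹ = ⁅y, w⁆ * w * c := by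
    rw [commutatorElement_def, show y * (w * c) * y⁻¹ = y * w * (c * y⁻¹) by group,
      h2.inv_right.eq]
    group
  rw [e]
  refine mul_mem (mul_mem ?_ (Subgroup.mem_sup_left hw)) ?_
  · exact Subgroup.mem_sup_right ⟨h1.1, Subgroup.mem_centralizer_singleton_iff.2 h1.2.eq⟩
  · exact Subgroup.mem_sup_right ⟨hc.1, Subgroup.mem_centralizer_singleton_iff.2 hc.2.eq⟩

theorem jinv_conj_WC {j m : G} (hj : JInv D t j) (hm : m ∈ WC D x t b) :
    j * m * j⁻¹ ∈ WC D x t b := by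
  obtain ⟨w, hw, c, hc, rfl⟩ := (S.mem_WC hb hle hab).1 hm
  rw [← conj_mul, (hj.2 w (commutator_self_le _ hw)).eq, mul_inv_cancel_right]
  refine mul_mem (Subgroup.mem_sup_left hw) (Subgroup.mem_sup_right ⟨?_, ?_⟩)
  · have := conj_mem_cj (g := j) hc.1
    rwa [cj_commutator, S.jinv_normalizes hj hb.gen hle] at this
  · exact Subgroup.mem_centralizer_singleton_iff.2
      ((((S.jinv_commute_x hj).mul_left hc.2).mul_left (S.jinv_commute_x hj).inv_left)).eq

/-- An involution centralising `⟨D_t⟩` inverts `b'` modulo `WC`. -/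
theorem invert {j : G} (hj : JInv D t j) {y : G} (hy : y ∈ ⁅b, b⁆) :
    y * (j * y * j⁻¹) ∈ WC D x t b := by
  have hj2 := mul_self_of_orderOf_two hj.1
  have hjN : ∀ v ∈ ⁅b, b⁆, j * v * j⁻¹ ∈ ⁅b, b⁆ := fun v hv => by
    have := conj_mem_cj (g := j) hv
    rwa [cj_commutator, S.jinv_normalizes hj hb.gen hle] at this
  set u := y * (j * y * j⁻¹) with hu
  have huN : u ∈ ⁅b, b⁆ := mul_mem hy (hjN y hy)
  set z := u⁻¹ * (j * u * j⁻¹) with hz
  have hju : j * u * j⁻¹ = j * y * j⁻¹ * y := by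
    rw [hu, inv_eq_self_of_sq hj2, show j * (y * (j * y * j)) * j = j * y * j * y * (j * j) by group,
      hj2, mul_one]
  have hzcomm : z = ⁅u⁻¹, y⁻¹⁆ := by
    rw [hz, hju, commutatorElement_def, hu]; group
  have hzC := S.comm_C hb hle hab (inv_mem huN) (inv_mem hy)
  rw [← hzcomm] at hzC
  have hjz : j * z * j⁻¹ = z⁻¹ := by
    have h2 : j * (j * u * j⁻¹) * j⁻¹ = u := by
      rw [show j * (j * u * j⁻¹) * j⁻¹ = (j * j) * u * (j * j)⁻¹ by group, hj2]; simp
    calc j * z * j⁻¹ = (j * u * j⁻¹)⁻¹ * (j * (j * u * j⁻¹) * j⁻¹) := by rw [hz]; group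
      _ = z⁻¹ := by rw [h2, hz]; group
  obtain ⟨i, hi, hi'⟩ := exists_sq_inverted (odd_orderOf_of_mem (S.small b hb.ne_top hb.gen)
    (commutator_self_le b hzC.1)) hjz
  set k := z ^ i
  have hkN : k ∈ ⁅b, b⁆ := pow_mem hzC.1 i
  have hkx : Commute k x := hzC.2.pow_left i
  have hu' : Commute j (u * k) := by
    refine mul_inv_eq_iff_eq_mul.1 ?_
    rw [← conj_mul, hi', show j * u * j⁻¹ = u * z by rw [hz, mul_inv_cancel_left], ← hi, sq]
    group
  have hmem : cj (u * k) A ∈ Fixed D j := by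
    refine ⟨S.conj A S.memA _, fun a ha => ?_⟩
    have h1 := hj.2 _ (S.A_le_Gc_t (mem_cj.1 ha))
    have h2 := (hu'.mul_right h1).mul_right hu'.inv_right
    simpa [mul_assoc] using h2
  rw [S.fixed_eq hj] at hmem
  obtain ⟨h, hh, he⟩ := S.exists_conj_mem S.memA hmem.1 S.A_le_Gc_t (le_Gc hmem.1 hmem.2)
  obtain ⟨n, hn, a, ha, rfl⟩ := S.exists_mul' (gen_Gc t) S.memA S.A_le_Gc_t hh
  rw [← cj_cj, cj_of_mem ha] at he
  have hfix : cj (n⁻¹ * (u * k)) A = A := by rw [← cj_cj, ← he, cj_inv_cj]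
  have hvN : n⁻¹ * (u * k) ∈ ⁅b, b⁆ :=
    mul_mem (inv_mem (S.W_le hb hle hab hn)) (mul_mem huN hkN)
  have hvx := S.toQHyp.commute_of_fixed_mem hb.gen (S.solv hb.ne_top hb.gen) S.memA hb.le
    S.memx S.xne hvN hfix
  exact (S.mem_WC hb hle hab).2 ⟨n, hn, n⁻¹ * (u * k) * k⁻¹,
    ⟨mul_mem hvN (inv_mem hkN), hvx.mul_left hkx.inv_left⟩, by group⟩

/-- There is only one involution in `C(⟨D_t⟩) ∩ C(t)`. -/
theorem jinv_eq (hnle : ¬ b ≤ Gc D t) {j : G} (hj : JInv D t j) (hjt : Commute j t) : j = t := by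
  by_contra hne
  have hj2 := mul_self_of_orderOf_two hj.1
  have ht2 := mul_self_of_orderOf_two S.invol
  have hjt' : JInv D t (j * t) := by
    refine ⟨orderOf_eq_prime ?_ fun h => hne ?_, fun w hw =>
      (hj.2 w hw).mul_left (commute_of_mem_Gc hw)⟩
    · rw [hjt.mul_pow, sq, sq, hj2, ht2, one_mul]
    · rw [eq_inv_of_mul_eq_one_left h, inv_eq_self_of_sq ht2]
  have hall : ⁅b, b⁆ ≤ WC D x t b := by
    intro y hy
    set y1 := t * y * t⁻¹ with hy1
    have hy1N : y1 ∈ ⁅b, b⁆ := by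
      have := conj_mem_cj (g := t) hy
      rwa [cj_commutator, S.jinv_normalizes S.jinv_t hb.gen hle] at this
    have m1 := S.invert hb hle hab S.jinv_t hy
    rw [← hy1] at m1
    have m2 := S.invert hb hle hab hj hy1N
    have m3 := S.invert hb hle hab hjt' hy
    rw [show j * t * y * (j * t)⁻¹ = j * y1 * j⁻¹ by rw [hy1]; group] at m3
    set jy := j * y1 * j⁻¹
    have h4 : y1 * y⁻¹ ∈ WC D x t b := by
      rw [show y1 * y⁻¹ = (y1 * jy) * (y * jy)⁻¹ by group]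
      exact mul_mem m2 (inv_mem m3)
    have h5 : y⁻¹ * (y * y1) * y⁻¹⁻¹ ∈ WC D x t b := S.conj_WC hb hle hab (inv_mem hy) m1
    refine mem_of_sq_mem (odd_orderOf_of_mem (S.small b hb.ne_top hb.gen)
      (commutator_self_le b hy)) ?_
    rw [show y ^ 2 = (y1 * y⁻¹)⁻¹ * (y⁻¹ * (y * y1) * y⁻¹⁻¹) by rw [sq]; group]
    exact mul_mem (inv_mem h4) h5
  refine hnle (hb.gen.le_of fun B hB hBb => ?_)
  obtain ⟨h, hh, rfl⟩ := S.exists_conj_mem S.memA hB hb.le hBb
  obtain ⟨n, hn, a, ha, rfl⟩ := S.exists_mul' hb.gen S.memA hb.le hh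
  rw [← cj_cj, cj_of_mem ha]
  obtain ⟨w, hw, c, hc, rfl⟩ := (S.mem_WC hb hle hab).1 (hall hn)
  rw [← cj_cj, S.cj_A hc.2]
  exact cj_le_of_mem S.A_le_Gc_t (commutator_self_le _ hw)

end Setup

section Omega

variable (S : Setup q p D A x t)
include S

theorem EJ_commute {e : G} (he : e ∈ EJ D t) {w : G} (hw : w ∈ Gc D t) : Commute e w := by
  have : EJ D t ≤ Subgroup.centralizer ({w} : Set G) := by
    rw [EJ, Subgroup.closure_le]
    rintro _ ⟨j, hj, rfl⟩
    exact Subgroup.mem_centralizer_singleton_iff.2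
      ((hj.2 w hw).mul_left (commute_of_mem_Gc hw)).eq
  exact Subgroup.mem_centralizer_singleton_iff.1 (this he)

theorem EJ_conj {g : G} (hg : ∀ w ∈ Gc D t, Commute g w) {e : G} (he : e ∈ EJ D t) :
    g * e * g⁻¹ ∈ EJ D t := by
  have : EJ D t ≤ (EJ D t).comap (MulAut.conj g).toMonoidHom := by
    conv_lhs => rw [EJ]
    rw [Subgroup.closure_le]
    rintro _ ⟨j, hj, rfl⟩
    have hjinv : ∀ i, JInv D t i → JInv D t (g * i * g⁻¹) := fun i hi =>
      ⟨by rw [← MulAut.conj_apply, MulEquiv.orderOf_eq]; exact hi.1,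
        fun w hw => ((hg w hw).mul_left (hi.2 w hw)).mul_left (hg w hw).inv_left⟩
    show g * (j * t) * g⁻¹ ∈ EJ D t
    have e1 : g * (j * t) * g⁻¹ = (g * j * g⁻¹ * t) * (g * t * g⁻¹ * t)⁻¹ := by
      have h2 : (g * t * g⁻¹)⁻¹ = g * t * g⁻¹ := by
        rw [show (g * t * g⁻¹)⁻¹ = g * t⁻¹ * g⁻¹ by group,
        inv_eq_self_of_sq (mul_self_of_orderOf_two S.invol)]
      rw [mul_inv_rev (g * t * g⁻¹) t, h2]
      group
    rw [e1]
    exact mul_mem (Subgroup.subset_closure ⟨_, hjinv j hj, rfl⟩)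
      (inv_mem (Subgroup.subset_closure ⟨_, hjinv t S.jinv_t, rfl⟩))
  exact this he

theorem inverted_mem_EJ {z : G} (hzodd : Odd (orderOf z)) (hz : ∀ w ∈ Gc D t, Commute z w)
    (hzt : t * z * t⁻¹ = z⁻¹) : z ∈ EJ D t := by
  obtain ⟨i, hi, hi'⟩ := exists_sq_inverted hzodd hzt
  have e : z = (z ^ i * t * (z ^ i)⁻¹) * t := by
    have h2 : t * (z ^ i)⁻¹ * t⁻¹ = z ^ i := by rw [← conj_inv, hi', inv_inv]
    rw [inv_eq_self_of_sq (mul_self_of_orderOf_two S.invol)] at h2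
    calc z = z ^ i * z ^ i := by rw [← sq, hi]
      _ = z ^ i * (t * (z ^ i)⁻¹ * t) := by rw [h2]
      _ = _ := by group
  rw [e]
  exact Subgroup.subset_closure ⟨_, ⟨by rw [← MulAut.conj_apply, MulEquiv.orderOf_eq]; exact S.invol,
    fun w hw => ((((hz w hw).pow_left i).mul_left (commute_of_mem_Gc hw)).mul_left
      ((hz w hw).pow_left i).inv_left)⟩, rfl⟩

theorem cj_Om_le {g : G} (h : ∀ w ∈ ⁅Gc D t, Gc D t⁆, g * w * g⁻¹ ∈ Om D t)
    (h' : ∀ j, JInv D t j → g * (j * t) * g⁻¹ ∈ Om D t) :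
    g ∈ Subgroup.normalizer (Om D t : Set G) := by
  rw [← cj_eq_self_iff]
  refine Subgroup.eq_of_le_of_card_ge ?_ (card_cj g _).ge
  refine Subgroup.map_le_iff_le_comap.2 (sup_le (fun w hw => h w hw) ?_)
  rw [EJ, Subgroup.closure_le]
  rintro _ ⟨j, hj, rfl⟩
  exact h' j hj

variable {b : Subgroup G} (hb : Block D A x b) (hle : Gc D t ≤ b) (hab : ¬ AbPairs D)
include hb hle hab

theorem conj_W_mem_Om {n w : G} (hn : n ∈ ⁅b, b⁆) (hw : w ∈ ⁅Gc D t, Gc D t⁆) :
    n * w * n⁻¹ ∈ Om D t := by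
  have hwN := S.W_le hb hle hab hw
  set z := ⁅n, w⁆ with hzdef
  suffices hz : z ∈ Om D t by
    rw [show n * w * n⁻¹ = z * w by rw [hzdef, commutatorElement_def]; group]
    exact mul_mem hz (Subgroup.mem_sup_left hw)
  have hzC := S.comm_C hb hle hab hn hwN
  have hzcen := S.C_central hb hle hab hzC.1 hzC.2
  have htN : t * n * t⁻¹ ∈ ⁅b, b⁆ := by
    have := conj_mem_cj (g := t) hn
    rwa [cj_commutator, S.jinv_normalizes S.jinv_t hb.gen hle] at this
  set z' := t * z * t⁻¹ with hz'def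
  have hwt : t * w * t⁻¹ = w := by
    rw [(commute_of_mem_Gc (commutator_self_le _ hw)).eq, mul_inv_cancel_right]
  have hz' : z' = ⁅t * n * t⁻¹, w⁆ := by
    conv_rhs => rw [← hwt]
    rw [hz'def, hzdef, ← MulAut.conj_apply, map_commutatorElement]
    rfl
  have hz'C := S.comm_C hb hle hab htN hwN
  rw [← hz'] at hz'C
  have hprod : z * z' ∈ ⁅Gc D t, Gc D t⁆ := by
    obtain ⟨w1, hw1, c, hc, e⟩ := (S.mem_WC hb hle hab).1 (S.invert hb hle hab S.jinv_t hn)
    have e1 : ⁅n * (t * n * t⁻¹), w⁆ = z * z' := by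
      have hn' := (S.C_central hb hle hab hz'C.1 hz'C.2 n (commutator_self_le b hn))
      have hzz := (hzcen z' (commutator_self_le b hz'C.1))
      calc ⁅n * (t * n * t⁻¹), w⁆ = n * ⁅t * n * t⁻¹, w⁆ * n⁻¹ * ⁅n, w⁆ := by
            simp only [commutatorElement_def]; group
        _ = z' * z := by rw [← hz', ← hn'.eq, mul_inv_cancel_right]
        _ = z * z' := hzz.eq.symm
    have e2 : ⁅w1 * c, w⁆ = ⁅w1, w⁆ := by
      have := S.C_central hb hle hab hc.1 hc.2 w (commutator_self_le b hwN)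
      calc ⁅w1 * c, w⁆ = w1 * (c * w) * c⁻¹ * w1⁻¹ * w⁻¹ := by
            simp only [commutatorElement_def]; group
        _ = ⁅w1, w⁆ := by rw [this.eq]; simp only [commutatorElement_def]; group
    rw [← e1, ← e, e2]
    exact Subgroup.commutator_mem_commutator (commutator_self_le _ hw1) (commutator_self_le _ hw)
  have hzz' : Commute z z'⁻¹ := (hzcen z' (commutator_self_le b hz'C.1)).inv_right
  have he1 : z * z'⁻¹ ∈ EJ D t := by
    refine inverted_mem_EJ S (odd_orderOf_of_mem (S.small b hb.ne_top hb.gen)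
      (commutator_self_le b (mul_mem hzC.1 (inv_mem hz'C.1)))) (fun v hv => ?_) ?_
    · exact (hzcen v (hle hv)).mul_left
        (S.C_central hb hle hab hz'C.1 hz'C.2 v (hle hv)).inv_left
    · have ht2 := mul_self_of_orderOf_two S.invol
      rw [show t * (z * z'⁻¹) * t⁻¹ = (t * z * t⁻¹) * (t * z' * t⁻¹)⁻¹ by group,
        mul_inv_rev z z'⁻¹, inv_inv, ← hz'def,
        show t * z' * t⁻¹ = z by
          rw [hz'def, inv_eq_self_of_sq ht2, show t * (t * z * t) * t = (t * t) * z * (t * t) by group,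
            ht2, one_mul, mul_one]]
  refine mem_of_sq_mem (odd_orderOf_of_mem (S.small b hb.ne_top hb.gen)
    (commutator_self_le b hzC.1)) ?_
  rw [show z ^ 2 = (z * z') * (z * z'⁻¹) by
    rw [hzz'.eq, sq]
    have hzz := (hzcen z' (commutator_self_le b hz'C.1)).eq
    rw [show z * z' * (z'⁻¹ * z) = z * z by group]]
  exact mul_mem (Subgroup.mem_sup_left hprod) (Subgroup.mem_sup_right he1)

theorem conj_gen_mem_Om {n : G} (hn : n ∈ ⁅b, b⁆) {j : G} (hj : JInv D t j) :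
    n⁻¹ * (j * t) * n ∈ Om D t := by
  set e := j * t with hedef
  have heE : e ∈ EJ D t := Subgroup.subset_closure ⟨j, hj, rfl⟩
  obtain ⟨y, hy, z, hz, hzx, rfl⟩ := S.toQHyp.exists_disp_mul hb.gen
    (S.solv hb.ne_top hb.gen) S.memA hb.le S.memx S.xne hab hn
  set s := y⁻¹ * (x * y * x⁻¹) with hs
  have hsN : s ∈ ⁅b, b⁆ := by
    have : x * y * x⁻¹ ∈ ⁅b, b⁆ := by
      have := conj_mem_cj (g := x) hy
      rwa [S.cj_gen_eq (hb.le S.memx)] at this
    exact mul_mem (inv_mem hy) this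
  have hzcen := S.C_central hb hle hab hz hzx
  suffices h : s⁻¹ * e * s ∈ Om D t by
    have hzn : z⁻¹ ∈ Subgroup.normalizer (Om D t : Set G) := cj_Om_le S
      (fun w hw => by
        rw [((hzcen w (hle (commutator_self_le _ hw))).inv_left).eq, mul_inv_cancel_right]
        exact Subgroup.mem_sup_left hw)
      (fun i hi => Subgroup.mem_sup_right (EJ_conj S (fun w hw => (hzcen w (hle hw)).inv_left)
        (Subgroup.subset_closure ⟨i, hi, rfl⟩)))
    have h2 := (Subgroup.mem_normalizer_iff.1 hzn _).1 h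
    rw [show (s * z)⁻¹ * e * (s * z) = z⁻¹ * (s⁻¹ * e * s) * z⁻¹⁻¹ by group]
    exact h2
  -- `e` fixes `y` modulo `WC`
  obtain ⟨m, hm, hey⟩ : ∃ m ∈ WC D x t b, e * y * e⁻¹ = y * m := by
    have h1 := S.invert hb hle hab S.jinv_t hy
    have h2 := S.invert hb hle hab hj hy
    set m1 := y * (t * y * t⁻¹)
    set m2 := y * (j * y * j⁻¹)
    refine ⟨y⁻¹ * m2⁻¹ * y * (j * m1 * j⁻¹), mul_mem ?_ (S.jinv_conj_WC hb hle hab hj h1), ?_⟩
    · simpa using S.conj_WC hb hle hab (inv_mem hy) (inv_mem h2)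
    · rw [show j * m1 * j⁻¹ = (j * y * j⁻¹) * (e * y * e⁻¹) by simp only [m1, e]; group]
      simp only [m2]
      group
  obtain ⟨w, hw, c, hc, rfl⟩ := (S.mem_WC hb hle hab).1 hm
  have hex : Commute e x := EJ_commute S heE (S.A_le_Gc_t S.memx)
  have hes : e * s * e⁻¹ = w⁻¹ * s * (x * w * x⁻¹) := by
    have hccen := S.C_central hb hle hab hc.1 hc.2
    have hk : c⁻¹ * (w⁻¹ * s * (x * w * x⁻¹)) * c = w⁻¹ * s * (x * w * x⁻¹) := by
      have hin : w⁻¹ * s * (x * w * x⁻¹) ∈ b := mul_mem (mul_mem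
        (inv_mem (hle (commutator_self_le _ hw))) (commutator_self_le b hsN))
        (mul_mem (mul_mem (hb.le S.memx) (hle (commutator_self_le _ hw))) (inv_mem (hb.le S.memx)))
      rw [((hccen _ hin).inv_left).eq, inv_mul_cancel_right]
    rw [hs, ← conj_mul, ← conj_inv, hey, ← conj_mul, ← conj_mul, hex.eq, mul_inv_cancel_right,
      ← conj_inv, hex.eq, mul_inv_cancel_right, hey]
    rw [← hk, hs]
    calc (y * (w * c))⁻¹ * (x * (y * (w * c)) * x⁻¹)
        = c⁻¹ * w⁻¹ * y⁻¹ * x * y * w * (c * x⁻¹) := by group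
      _ = c⁻¹ * w⁻¹ * y⁻¹ * x * y * w * (x⁻¹ * c) := by rw [hc.2.inv_right.eq]
      _ = _ := by group
  have h3 : s⁻¹ * e * s * e⁻¹ ∈ Om D t := by
    rw [show s⁻¹ * e * s * e⁻¹ = s⁻¹ * (e * s * e⁻¹) by group, hes,
      show s⁻¹ * (w⁻¹ * s * (x * w * x⁻¹)) = (s⁻¹ * w⁻¹ * s⁻¹⁻¹) * (x * w * x⁻¹) by group]
    refine mul_mem (conj_W_mem_Om S hb hle hab (inv_mem hsN) (inv_mem hw))
      (Subgroup.mem_sup_left ?_)
    have := conj_mem_cj (g := x) hw
    rwa [S.cj_gen_eq (S.A_le_Gc_t S.memx)] at this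
  simpa using mul_mem h3 (Subgroup.mem_sup_right heE)

theorem block_le_normalizer : b ≤ Subgroup.normalizer (Om D t : Set G) := by
  have hxn : x ∈ Subgroup.normalizer (Om D t : Set G) := cj_Om_le S
    (fun w hw => Subgroup.mem_sup_left (by
      have := conj_mem_cj (g := x) hw
      rwa [S.cj_gen_eq (S.A_le_Gc_t S.memx)] at this))
    (fun j hj => Subgroup.mem_sup_right (by
      have he : j * t ∈ EJ D t := Subgroup.subset_closure ⟨j, hj, rfl⟩
      rw [(EJ_commute S he (S.A_le_Gc_t S.memx)).eq.symm, mul_inv_cancel_right]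
      exact he))
  have hN : ⁅b, b⁆ ≤ Subgroup.normalizer (Om D t : Set G) := fun n hn => cj_Om_le S
    (fun w hw => conj_W_mem_Om S hb hle hab hn hw)
    (fun j hj => by simpa using conj_gen_mem_Om S hb hle hab (inv_mem hn) hj)
  intro g hg
  obtain ⟨n, hn, a, ha, rfl⟩ := S.exists_mul' hb.gen S.memA hb.le hg
  refine mul_mem (hN hn) ?_
  have hA : Subgroup.zpowers x ≤ Subgroup.normalizer (Om D t : Set G) := Subgroup.zpowers_le.2 hxn
  rw [S.zpowers_eq S.memA S.memx S.xne] at hA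
  exact hA ha

end Omega

namespace Setup

variable (S : Setup q p D A x t)
include S

/-- With all fixed elements of `⟨D_t⟩'` central, there are no two blocks. -/
theorem false_of_two_blocks (hab : ¬ AbPairs D) (hev : ¬ Odd (Nat.card G)) {b b' : Subgroup G}
    (hb : Block D A x b) (hb' : Block D A x b') (hne : b ≠ b') (hle : Gc D t ≤ b)
    (hle' : Gc D t ≤ b') (hnle : ¬ b ≤ Gc D t) : False := by
  have hΩn : (Om D t).Normal := by
    rw [← Subgroup.normalizer_eq_top_iff, eq_top_iff, ← S.block_sup hb hb' hne]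
    exact sup_le (block_le_normalizer S hb hle hab) (block_le_normalizer S hb' hle' hab)
  have ht2 := mul_self_of_orderOf_two S.invol
  -- conjugation by elements of `Om` preserves `D_t`
  have hΩA : ∀ ω ∈ Om D t, cj ω A ∈ Fixed D t := by
    intro ω hω
    have hn : ⁅Gc D t, Gc D t⁆ ≤ Subgroup.normalizer (EJ D t : Set G) := fun w hw =>
      cj_eq_self_iff.1 (cj_eq_self_of_commute fun e he =>
        (EJ_commute S he (commutator_self_le _ hw)).symm)
    rw [Om, ← SetLike.mem_coe, Subgroup.coe_mul_of_left_le_normalizer_right _ _ hn] at hω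
    obtain ⟨w, hw, e, he, rfl⟩ := hω
    rw [← cj_cj, S.cj_A (EJ_commute S he (S.A_le_Gc_t S.memx)),
      ← S.le_Gc_t_iff (S.conj A S.memA w)]
    exact cj_le_of_mem S.A_le_Gc_t (commutator_self_le _ hw)
  have hfib : ∀ B ∈ Fixed D t, ∃ w ∈ ⁅Gc D t, Gc D t⁆, cj w A = B := by
    intro B hB
    obtain ⟨h, hh, rfl⟩ := S.exists_conj_mem S.memA hB.1 S.A_le_Gc_t (le_Gc hB.1 hB.2)
    obtain ⟨n, hn, a, ha, rfl⟩ := S.exists_mul' (gen_Gc t) S.memA S.A_le_Gc_t hh
    exact ⟨n, hn, by rw [← cj_cj n a, cj_of_mem ha]⟩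
  -- so `D_t` is a block of imprimitivity
  have himp : ∀ g B, B ∈ Fixed D t → cj g B ∈ Fixed D t → ∀ C ∈ Fixed D t, cj g C ∈ Fixed D t := by
    intro g B hB hgB C hC
    obtain ⟨w1, hw1, rfl⟩ := hfib B hB
    obtain ⟨w2, hw2, rfl⟩ := hfib C hC
    obtain ⟨w3, hw3, h3⟩ := hfib _ hgB
    have e : cj g (cj w2 A) = cj (g * (w2 * w1⁻¹) * g⁻¹ * w3) A := by
      rw [← cj_cj _ w3, h3, cj_cj, cj_cj, cj_cj]
      congr 1
      group
    rw [e]
    exact hΩA _ (mul_mem (hΩn.conj_mem _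
      (mul_mem (Subgroup.mem_sup_left hw2) (inv_mem (Subgroup.mem_sup_left hw1))) g)
      (Subgroup.mem_sup_left hw3))
  have hiso : Cfsg.IsIsolatedInvolution t := by
    refine ⟨S.invol, fun g hg => ?_⟩
    set u := g * t * g⁻¹ with hu
    have hu2 : u * u = 1 := by
      rw [hu, show g * t * g⁻¹ * (g * t * g⁻¹) = g * (t * t) * g⁻¹ by group, ht2]; simp
    have hodd : Odd (Fixed D t).ncard := by
      have h1 := S.odd_ncard_le S.memA S.A_le_Gc_t (S.small _ S.Gc_t_ne_top (gen_Gc t))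
      rwa [show {B | B ∈ D ∧ B ≤ Gc D t} = Fixed D t from Set.ext fun B =>
        ⟨fun h => (S.le_Gc_t_iff h.1).1 h.2, fun h => ⟨h.1, le_Gc h.1 h.2⟩⟩] at h1
    obtain ⟨C, hC, hCu⟩ := exists_fixed_of_odd_ncard (cj u) (cj_cj_of_sq hu2) (Fixed D t)
      (fun C hC => ⟨S.conj C hC.1 u, fun c hc => by
        have h1 := hC.2 _ (mem_cj.1 hc)
        have h2 := (hg.mul_right h1).mul_right hg.inv_right
        simpa [mul_assoc] using h2⟩) hodd
    have hug : ∀ B ∈ Fixed D t, ∀ c ∈ cj g B, Commute u c := fun B hB c hc =>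
      commute_conj_iff.2 (hB.2 _ (mem_cj.1 hc))
    have hCc : ∀ c ∈ C, Commute u c :=
      S.commute_of_fixed (S.conj A S.memA g) hC.1 (hug A ⟨S.memA, S.tA⟩) hCu
    have hgC : cj g⁻¹ C ∈ Fixed D t := ⟨S.conj C hC.1 _, fun c hc => by
      rw [mem_cj, inv_inv] at hc
      have := commute_conj_iff.1 (hCc _ hc)
      simpa [mul_assoc] using this⟩
    have hall : ∀ B ∈ Fixed D t, cj g⁻¹ B ∈ Fixed D t := himp g⁻¹ C hC hgC
    have huJ : JInv D t u := by
      refine ⟨by rw [hu, ← MulAut.conj_apply, MulEquiv.orderOf_eq]; exact S.invol, fun w hw => ?_⟩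
      have hle : Gc D t ≤ Subgroup.centralizer ({u} : Set G) := sSup_le fun B hB c hc =>
        Subgroup.mem_centralizer_singleton_iff.2
          (hug _ (hall B hB) c (by rwa [cj_cj_inv])).eq.symm
      exact (Subgroup.mem_centralizer_singleton_iff.1 (hle hw)).symm
    exact S.jinv_eq hb hle hab hnle huJ hg.symm
  -- Glauberman
  have hz := Cores.zStarProp (Cores.uniqueInvolutionCase Cores.quaternionCase) G t hiso
  haveI : (Cfsg.oddCore G).Characteristic := Cores.pPrimeCore_characteristic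
  set O := Cfsg.oddCore G
  have hOn : O.Normal := inferInstance
  have hOodd : Odd (Nat.card O) := Cores.odd_card_oddCore
  have hprod : ∀ g : G, ∃ o ∈ O, Commute (o⁻¹ * g) t := by
    intro g
    set z := g * t * g⁻¹ * t with hzdef
    have hz' : z ∈ O := by
      have h1 := hz g
      rw [show t * g * t⁻¹ * g⁻¹ = t * (g * t⁻¹ * g⁻¹) by group, inv_eq_self_of_sq ht2] at h1
      have h2 := hOn.conj_mem _ h1 t
      rwa [inv_eq_self_of_sq ht2, ← mul_assoc t t, ht2, one_mul] at h2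
    have hzt : t * z * t⁻¹ = z⁻¹ := by
      rw [hzdef, inv_eq_self_of_sq ht2, mul_inv_rev, mul_inv_rev, mul_inv_rev, inv_inv,
        inv_eq_self_of_sq ht2, show t * (g * t * g⁻¹ * t) * t = t * (g * t * g⁻¹) * (t * t) by group,
        ht2, mul_one]
      group
    obtain ⟨i, hi, hi'⟩ := exists_sq_inverted (odd_orderOf_of_mem hOodd hz') hzt
    refine ⟨z ^ i, pow_mem hz' i, ?_⟩
    have h2 : t * (z ^ i)⁻¹ * t = z ^ i := by
      have : t * (z ^ i)⁻¹ * t⁻¹ = z ^ i := by rw [← conj_inv, hi', inv_inv]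
      rwa [inv_eq_self_of_sq ht2] at this
    have e : g * t * g⁻¹ = z ^ i * t * (z ^ i)⁻¹ := by
      calc g * t * g⁻¹ = z * t := by rw [hzdef, mul_assoc _ t t, ht2, mul_one]
        _ = z ^ i * z ^ i * t := by rw [← sq, hi]
        _ = z ^ i * (t * (z ^ i)⁻¹ * t) * t := by rw [h2]
        _ = z ^ i * t * (z ^ i)⁻¹ * (t * t) := by group
        _ = _ := by rw [ht2, mul_one]
    refine mul_inv_eq_iff_eq_mul.1 ?_
    calc (z ^ i)⁻¹ * g * t * ((z ^ i)⁻¹ * g)⁻¹ = (z ^ i)⁻¹ * (g * t * g⁻¹) * z ^ i := by group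
      _ = t := by rw [e]; group
  have hHn : Gc D t ≤ Subgroup.normalizer (O : Set G) := by
    rw [Subgroup.normalizer_eq_top]; exact le_top
  have hRn : (O ⊔ Gc D t).Normal := by
    refine ⟨fun r hr g => ?_⟩
    obtain ⟨o, ho, hc⟩ := hprod g
    have hR : cj g (O ⊔ Gc D t) ≤ O ⊔ Gc D t := by
      have e : g = o * (o⁻¹ * g) := by group
      rw [e, ← cj_cj]
      refine le_trans (cj_mono ?_) (cj_le_of_mem le_rfl (Subgroup.mem_sup_left ho))
      rw [cj_sup, cj_Gc_of_commute S.toQHyp hc]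
      refine sup_le_sup ?_ le_rfl
      intro v hv
      simpa [mul_assoc] using hOn.conj_mem _ (mem_cj.1 hv) (o⁻¹ * g)
    exact hR (conj_mem_cj hr)
  have htop : O ⊔ Gc D t = ⊤ := by
    refine eq_top_iff.2 (S.top ▸ sSup_le fun B hB => ?_)
    obtain ⟨h, -, rfl⟩ := S.exists_conj_mem S.memA hB (le_top : A ≤ ⊤) le_top
    rintro _ ⟨a, ha, rfl⟩
    exact hRn.conj_mem a (Subgroup.mem_sup_right (S.A_le_Gc_t ha)) h
  have h := odd_card_sup hHn hOodd (S.small _ S.Gc_t_ne_top (gen_Gc t))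
  rw [htop, Subgroup.card_top] at h
  exact hev h

end Setup

end Cfsg.Agent.H73.PairGen
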