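import Cfsg.Agent.H73.PairGen.Odd

/-!
# Groups generated by subgroups of order `p` which pairwise generate a fixed group of odd order
-/

set_option linter.style.haveILetI false
set_option linter.unusedSectionVars false

namespace Cfsg.Agent.H73.PairGen

open scoped commutatorElement

universe u

variable {G : Type u} [Group G] [Finite G] {p : ℕ} {D : Set (Subgroup G)}

theorem not_dvd_of_odd_prime {p k : ℕ} (hp : p.Prime) (hp2 : p ≠ 2) : Nat.Coprime p (2 ^ k) :=
  ((Nat.coprime_primes hp Nat.prime_two).2 hp2).pow_right k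

namespace Hyp

variable (hyp : Hyp p D)
include hyp

theorem not_cyclic_sylow (hev : ¬ Odd (Nat.card G)) (P : Sylow 2 G) :
    ¬ IsCyclic (P : Subgroup G) := by
  intro hc
  haveI : Fact (Nat.Prime 2) := ⟨Nat.prime_two⟩
  have h2 : 2 ∣ Nat.card G := even_iff_two_dvd.1 (Nat.not_odd_iff_even.1 hev)
  have hmin : (Nat.card G).minFac = 2 := (Nat.minFac_eq_two_iff _).2 h2
  have hK := MonoidHom.ker_transferSylow_isComplement' P (hc.normalizer_le_centralizer hmin)
  set K := (MonoidHom.transferSylow P (hc.normalizer_le_centralizer hmin)).ker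
  have hKodd : Odd (Nat.card K) := by
    have hidx : (P : Subgroup G).index = Nat.card K := hK.index_eq_card
    rw [← Nat.not_even_iff_odd, even_iff_two_dvd, ← hidx]
    exact P.not_dvd_index
  obtain ⟨e, he⟩ := IsPGroup.iff_card.1 P.isPGroup'
  have hKidx : K.index = 2 ^ e := by rw [← he]; exact hK.symm.index_eq_card
  have htop : K = ⊤ := by
    refine eq_top_iff.2 (hyp.top ▸ sSup_le fun B hB b hb => ?_)
    rw [← QuotientGroup.eq_one_iff, ← orderOf_eq_one_iff]
    refine Nat.eq_one_of_dvd_coprimes (not_dvd_of_odd_prime hyp.prime hyp.ne_two (k := e)) ?_ ?_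
    · refine orderOf_dvd_of_pow_eq_one ?_
      rw [← QuotientGroup.mk_pow, hyp.pow_p hB hb, QuotientGroup.mk_one]
    · rw [← hKidx, Subgroup.index_eq_card]
      exact orderOf_dvd_natCard _
  rw [htop, Subgroup.card_top] at hKodd
  exact hev hKodd

theorem restrict {K : Subgroup G} (hK : Gen D K) (htwo : ∃ A ∈ D, ∃ B ∈ D, A ≠ B ∧ A ≤ K ∧ B ≤ K) :
    Hyp p {B : Subgroup K | B.map K.subtype ∈ D} := by
  have hinj := Subgroup.map_injective K.subtype_injective
  have e : ∀ A B : Subgroup K, Nonempty (↥(A ⊔ B) ≃* ↥(A.map K.subtype ⊔ B.map K.subtype)) :=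
    fun A B => ⟨((A ⊔ B).equivMapOfInjective _ K.subtype_injective).trans
      (MulEquiv.subgroupCongr (Subgroup.map_sup _ _ _))⟩
  refine ⟨hyp.prime, hyp.ne_two, fun A hA => ?_, fun A hA g => ?_, ?_, fun A hA B hB hAB => ?_,
    fun A hA B hB C hC E hE hAB hCE => ?_, ?_⟩
  · rw [← Subgroup.card_map_of_injective K.subtype_injective]
    exact hyp.card _ hA
  · show (cj g A).map K.subtype ∈ D
    have : (cj g A).map K.subtype = cj (g : G) (A.map K.subtype) := by
      rw [cj, cj, Subgroup.map_map, Subgroup.map_map]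
      congr 1
    rw [this]
    exact hyp.conj _ hA _
  · refine hinj (le_antisymm (Subgroup.map_mono le_top) ?_)
    rw [← MonoidHom.range_eq_map, Subgroup.range_subtype]
    refine hK.le_of fun B hB hBK => ?_
    have h1 : (B.subgroupOf K).map K.subtype = B := Subgroup.map_subgroupOf_eq_of_le hBK
    have h2 : B.subgroupOf K ∈ {B : Subgroup K | B.map K.subtype ∈ D} := by
      rw [Set.mem_ofPred_eq, h1]; exact hB
    exact h1.symm.le.trans (Subgroup.map_mono (le_sSup h2))
  · obtain ⟨e1⟩ := e A B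
    rw [Nat.card_congr e1.toEquiv]
    exact hyp.odd _ hA _ hB fun h => hAB (hinj h)
  · obtain ⟨e1⟩ := e A B
    obtain ⟨e2⟩ := e C E
    obtain ⟨e3⟩ := hyp.iso _ hA _ hB _ hC _ hE (fun h => hAB (hinj h)) (fun h => hCE (hinj h))
    exact ⟨e1.trans (e3.trans e2.symm)⟩
  · intro hcomm
    obtain ⟨A, hA, B, hB, hAB, hAK, hBK⟩ := htwo
    obtain ⟨a, ha, ha1, -⟩ := hyp.exists_gen hA
    obtain ⟨b, hb, hb1, -⟩ := hyp.exists_gen hB
    exact hyp.not_commute hA hB hAB ha ha1 hb hb1
      (congrArg Subtype.val (hcomm.is_comm.comm (⟨a, hAK ha⟩ : K) ⟨b, hBK hb⟩))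

theorem quotient {z : G} (hz : orderOf z = 2) [(Subgroup.zpowers z).Normal] :
    Hyp p ((fun B => B.map (QuotientGroup.mk' (Subgroup.zpowers z))) '' D) := by
  set f := QuotientGroup.mk' (Subgroup.zpowers z)
  have hsurj := QuotientGroup.mk'_surjective (Subgroup.zpowers z)
  have hinj : ∀ L : Subgroup G, Odd (Nat.card L) → ∀ a ∈ L, f a = 1 → a = 1 := by
    intro L hL a ha h
    refine eq_one_of_sq (odd_orderOf_of_mem hL ha) ?_
    obtain ⟨i, rfl⟩ := Subgroup.mem_zpowers_iff.1 ((QuotientGroup.eq_one_iff a).1 h)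
    rw [← zpow_natCast, ← zpow_mul, mul_comm, zpow_mul, zpow_natCast, ← hz, pow_orderOf_eq_one,
      one_zpow]
  have e : ∀ L : Subgroup G, Odd (Nat.card L) → Nonempty (↥L ≃* ↥(L.map f)) := fun L hL =>
    ⟨MulEquiv.ofBijective (f.subgroupMap L) ⟨fun a b hab => by
      have h := congrArg Subtype.val hab
      refine Subtype.ext (mul_inv_eq_one.1 (hinj L hL _ (mul_mem a.2 (inv_mem b.2)) ?_))
      rw [map_mul, map_inv]
      exact mul_inv_eq_one.2 h, f.subgroupMap_surjective L⟩⟩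
  have hne : ∀ A ∈ D, ∀ B ∈ D, A.map f ≠ B.map f → A ≠ B := fun A _ B _ h h' => h (by rw [h'])
  have hsingle : ∀ A ∈ D, Odd (Nat.card A) := fun A hA => by
    rw [hyp.card A hA]; exact hyp.prime.odd_of_ne_two hyp.ne_two
  refine ⟨hyp.prime, hyp.ne_two, ?_, ?_, ?_, ?_, ?_, ?_⟩
  · rintro _ ⟨A, hA, rfl⟩
    obtain ⟨e1⟩ := e A (hsingle A hA)
    rw [← Nat.card_congr e1.toEquiv]
    exact hyp.card A hA
  · rintro _ ⟨A, hA, rfl⟩ g
    obtain ⟨g, rfl⟩ := hsurj g
    refine ⟨cj g A, hyp.conj A hA g, ?_⟩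
    show (cj g A).map f = cj (f g) (A.map f)
    rw [cj, cj, Subgroup.map_map, Subgroup.map_map]
    congr 1
  · rw [sSup_image, ← Subgroup.map_top_of_surjective f hsurj, ← hyp.top]
    exact ((Subgroup.gc_map_comap f).l_sSup).symm
  · rintro _ ⟨A, hA, rfl⟩ _ ⟨B, hB, rfl⟩ h
    have hAB := hne A hA B hB h
    obtain ⟨e1⟩ := e _ (hyp.odd A hA B hB hAB)
    show Odd (Nat.card ↥(A.map f ⊔ B.map f))
    rw [← Subgroup.map_sup, ← Nat.card_congr e1.toEquiv]
    exact hyp.odd A hA B hB hAB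
  · rintro _ ⟨A, hA, rfl⟩ _ ⟨B, hB, rfl⟩ _ ⟨C, hC, rfl⟩ _ ⟨E, hE, rfl⟩ h1 h2
    have hAB := hne A hA B hB h1
    have hCE := hne C hC E hE h2
    obtain ⟨e1⟩ := e _ (hyp.odd A hA B hB hAB)
    obtain ⟨e2⟩ := e _ (hyp.odd C hC E hE hCE)
    obtain ⟨e3⟩ := hyp.iso A hA B hB C hC E hE hAB hCE
    exact ⟨(MulEquiv.subgroupCongr (Subgroup.map_sup A B f).symm).trans
      (e1.symm.trans (e3.trans (e2.trans (MulEquiv.subgroupCongr (Subgroup.map_sup C E f)))))⟩
  · intro hcomm
    obtain ⟨A, hA, B, hB, hAB, hn⟩ := hyp.exists_noncomm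
    refine hn fun a ha b hb => commutatorElement_eq_one_iff_commute.1 ?_
    refine hinj _ (hyp.odd A hA B hB hAB) _ ?_ ?_
    · rw [commutatorElement_def]
      exact mul_mem (mul_mem (mul_mem ha hb) (inv_mem ha)) (inv_mem hb)
    · rw [map_commutatorElement]
      exact commutatorElement_eq_one_iff_commute.2 (hcomm.is_comm.comm _ _)

theorem exists_invol (hev : ¬ Odd (Nat.card G)) :
    ∃ A ∈ D, ∃ t : G, orderOf t = 2 ∧ ∀ a ∈ A, Commute t a := by
  classical
  haveI : Fact (Nat.Prime 2) := ⟨Nat.prime_two⟩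
  haveI := Fact.mk hyp.prime
  obtain ⟨P⟩ := (inferInstance : Nonempty (Sylow 2 G))
  letI : MulAction (P : Subgroup G) D :=
    { smul := fun g B => ⟨cj (g : G) B.1, hyp.conj B.1 B.2 g⟩
      one_smul := fun B => Subtype.ext (cj_one _)
      mul_smul := fun g h B => Subtype.ext (cj_cj _ _ _).symm }
  have hfix := P.isPGroup'.card_modEq_card_fixedPoints D
  have hne : Nonempty (MulAction.fixedPoints (P : Subgroup G) D) := by
    by_contra h
    rw [not_nonempty_iff] at h
    have hodd := hyp.odd_ncard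
    rw [← Nat.card_coe_set_eq, Nat.odd_iff] at hodd
    have h0 : Nat.card D % 2 = Nat.card (MulAction.fixedPoints (P : Subgroup G) D) % 2 := hfix
    rw [hodd, Nat.card_of_isEmpty] at h0
    exact absurd h0 (by decide)
  obtain ⟨⟨⟨A, hA⟩, hfixA⟩⟩ := hne
  refine ⟨A, hA, ?_⟩
  by_contra hno
  simp only [not_exists, not_and] at hno
  have hPA : ∀ g : (P : Subgroup G), cj (g : G) A = A := fun g => congrArg Subtype.val (hfixA g)
  let f : (P : Subgroup G) →* MulAut A := MonoidHom.mk' (fun g => cAut A (g : G) (hPA g))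
    fun g h => MulEquiv.ext fun a => Subtype.ext (by
      show (g : G) * h * a * ((g : G) * h)⁻¹ = (g : G) * ((h : G) * a * (h : G)⁻¹) * (g : G)⁻¹
      group)
  have hf : Function.Injective f := by
    rw [← MonoidHom.ker_eq_bot_iff]
    by_contra hker
    haveI := (Subgroup.nontrivial_iff_ne_bot f.ker).2 hker
    obtain ⟨k, hk, he⟩ := (P.isPGroup'.to_subgroup f.ker).nontrivial_iff_card.1 inferInstance
    obtain ⟨u, hu⟩ := exists_prime_orderOf_dvd_card' (G := f.ker) 2 (he ▸ dvd_pow_self 2 hk.ne')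
    refine hno ((u : (P : Subgroup G)) : G) (by rw [Subgroup.orderOf_coe, Subgroup.orderOf_coe, hu])
      fun a ha => ?_
    have h := congrArg (fun φ : MulAut A => ((φ ⟨a, ha⟩ : A) : G)) (MonoidHom.mem_ker.1 u.2)
    exact mul_inv_eq_iff_eq_mul.1 h
  haveI : IsCyclic A := isCyclic_of_prime_card (hyp.card A hA)
  haveI : IsCyclic (ZMod (Nat.card A))ˣ := by rw [hyp.card A hA]; infer_instance
  exact hyp.not_cyclic_sylow hev P (isCyclic_of_injective
    ((IsCyclic.mulAutMulEquiv A).toMonoidHom.comp f)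
    ((IsCyclic.mulAutMulEquiv A).injective.comp hf))

end Hyp

/-- Such a group has odd order. -/
theorem odd_card (hyp : Hyp p D) : Odd (Nat.card G) := by
  generalize hn : Nat.card G = n
  induction n using Nat.strong_induction_on generalizing G with
  | _ n ih =>
  subst hn
  by_contra hev
  classical
  haveI : Fact (Nat.Prime 2) := ⟨Nat.prime_two⟩
  obtain ⟨q, hq⟩ := hyp.exists_q
  have hlt : ∀ K : Subgroup G, K ≠ ⊤ → Nat.card K < Nat.card G := fun K hK =>
    lt_of_le_of_ne (Nat.le_of_dvd Nat.card_pos K.card_subgroup_dvd_card)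
      fun h => hK (Subgroup.eq_top_of_card_eq _ h)
  have hsmall : ∀ K : Subgroup G, K ≠ ⊤ → Gen D K → Odd (Nat.card K) := by
    intro K hK hgen
    by_cases htwo : ∃ A ∈ D, ∃ B ∈ D, A ≠ B ∧ A ≤ K ∧ B ≤ K
    · exact ih _ (hlt K hK) (hyp.restrict hgen htwo) rfl
    by_cases hone : ∃ A ∈ D, A ≤ K
    · obtain ⟨A, hA, hAK⟩ := hone
      have : K = A := le_antisymm (hgen.le_of fun B hB hBK => le_of_eq (by
        by_contra hne; exact htwo ⟨B, hB, A, hA, hne, hBK, hAK⟩)) hAK
      rw [this, hyp.card A hA]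
      exact hyp.prime.odd_of_ne_two hyp.ne_two
    · have : K = ⊥ := le_bot_iff.1 (hgen.le_of fun B hB hBK => absurd ⟨B, hB, hBK⟩ hone)
      rw [this, Subgroup.card_bot]
      exact odd_one
  have hnc : ∀ z : G, orderOf z = 2 → z ∉ Subgroup.center G := by
    intro z hz hzc
    haveI : (Subgroup.zpowers z).Normal := ⟨fun n hn g => by
      rwa [Subgroup.mem_center_iff.1 (Subgroup.zpowers_le.2 hzc hn) g, mul_inv_cancel_right]⟩
    have hcard := Subgroup.card_eq_card_quotient_mul_card_subgroup (Subgroup.zpowers z)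
    rw [Nat.card_zpowers, hz] at hcard
    have hoddQ := ih _ (by have := Nat.card_pos (α := G ⧸ Subgroup.zpowers z); omega)
      (hyp.quotient hz) rfl
    obtain ⟨P⟩ := (inferInstance : Nonempty (Sylow 2 G))
    refine hyp.not_cyclic_sylow hev P ?_
    have hP : Nat.card P ∣ 2 := by
      obtain ⟨e, he⟩ := IsPGroup.iff_card.1 P.isPGroup'
      have h1 := (P : Subgroup G).card_subgroup_dvd_card
      rw [he, hcard] at h1
      rw [he]
      exact (Nat.Coprime.dvd_of_dvd_mul_left ((Nat.coprime_two_left.2 hoddQ).pow_left e) h1)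
    haveI : Fact (Nat.Prime 2) := ⟨Nat.prime_two⟩
    rcases (Nat.dvd_prime Nat.prime_two).1 hP with h | h
    · haveI : Subsingleton (P : Subgroup G) := (Nat.card_eq_one_iff_unique.1 h).1
      exact isCyclic_of_subsingleton
    · exact isCyclic_of_prime_card h
  obtain ⟨A₀, hA₀, t₀, ht₀, ht₀A⟩ := hyp.exists_invol hev
  obtain ⟨t, ht, hmax⟩ := Set.exists_max_image {j : G | orderOf j = 2}
    (fun j => (Fixed D j).ncard) (Set.toFinite _) ⟨t₀, ht₀⟩
  have hpos : (Fixed D t).Nonempty := by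
    rw [← Set.ncard_pos (Set.toFinite _)]
    exact lt_of_lt_of_le ((Set.ncard_pos (Set.toFinite _)).2 (show (Fixed D t₀).Nonempty from ⟨A₀, hA₀, ht₀A⟩))
      (hmax t₀ ht₀)
  obtain ⟨A, hA, htA⟩ := hpos
  obtain ⟨x, hx, hx1, -⟩ := hyp.exists_gen hA
  have S : Setup q p D A x t := ⟨hq, hsmall, hA, hx, hx1, ht, hnc t ht, htA, hmax⟩
  exact hev S.odd_card

/-- The conclusion: `G/Z(G)` has odd order and a Frobenius complement. -/
theorem frobenius (hyp : Hyp p D) :
    Odd (Nat.card (G ⧸ Subgroup.center G)) ∧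
      ∃ H : Subgroup (G ⧸ Subgroup.center G), Cfsg.IsFrobeniusComplement H := by
  have hodd := odd_card hyp
  refine ⟨hodd.of_dvd_nat (Subgroup.card_quotient_dvd_card _), ?_⟩
  haveI : Group.IsSolvable G := Cfsg.Agent.S0205.result hodd
  have hs : Group.IsSolvable (⊤ : Subgroup G) := inferInstance
  obtain ⟨q, hq⟩ := hyp.exists_q
  obtain ⟨A, hA, B, hB, hAB, -⟩ := hyp.exists_noncomm
  obtain ⟨x, hx, hx1, hxA⟩ := hyp.exists_gen hA
  obtain ⟨y, hy, hy1, -⟩ := hyp.exists_gen hB
  have hgen : Gen D (⊤ : Subgroup G) :=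
    le_antisymm le_top (hyp.top ▸ sSup_le fun C hC => le_sSup ⟨hC, hyp.top ▸ le_top⟩)
  set π := QuotientGroup.mk' (Subgroup.center G)
  have hxc : x ∉ Subgroup.center G := fun h =>
    hyp.not_commute hA hB hAB hx hx1 hy hy1 (Subgroup.mem_center_iff.1 h y).symm
  -- elements fixing `A` lie in `A Z(G)`
  have hstab : ∀ g, cj g A = A → π g ∈ A.map π := by
    intro g hg
    obtain ⟨n, hn, a, ha, rfl⟩ := hyp.exists_mul' hgen hA le_top (Subgroup.mem_top g)
    rw [← cj_cj, cj_of_mem ha] at hg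
    have hnx := hq.commute_of_fixed_mem hgen hs hA le_top hx hx1 hn hg
    have hnc : n ∈ Subgroup.center G := Subgroup.mem_center_iff.2 fun w =>
      (hq.central hgen hs hA le_top hx hx1 hn hnx w (Subgroup.mem_top w)).eq.symm
    refine ⟨a, ha, ?_⟩
    rw [map_mul, show π n = 1 from (QuotientGroup.eq_one_iff n).2 hnc, one_mul]
  refine ⟨A.map π, fun h => hxc ?_, fun h => ?_, fun g hg => ?_⟩
  · exact (QuotientGroup.eq_one_iff x).1
      (Subgroup.mem_bot.1 (h ▸ Subgroup.mem_map_of_mem π hx))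
  · -- otherwise `G = A Z(G)` is abelian
    obtain ⟨a, ha, he⟩ : π y ∈ A.map π := h ▸ Subgroup.mem_top _
    have hz : a⁻¹ * y ∈ Subgroup.center G := QuotientGroup.eq.1 he
    refine hyp.not_commute hA hB hAB hx hx1 hy hy1 ?_
    have := (hyp.comm_in hA hx ha).mul_right (Subgroup.mem_center_iff.1 hz x)
    rwa [mul_inv_cancel_left] at this
  · obtain ⟨g, rfl⟩ := QuotientGroup.mk'_surjective (Subgroup.center G) g
    rw [eq_bot_iff]
    rintro c ⟨⟨a, ha, rfl⟩, hc⟩
    rw [Subgroup.mem_bot]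
    obtain ⟨_, ⟨b, hb, rfl⟩, he⟩ := hc
    change (π g) * (π b) * (π g)⁻¹ = π a at he
    rw [← map_inv, ← map_mul, ← map_mul] at he
    by_contra hne
    have ha1 : a ≠ 1 := fun h => hne (by rw [h, map_one])
    have hb1 : b ≠ 1 := by
      rintro rfl
      rw [mul_one, mul_inv_cancel, map_one] at he
      exact hne he.symm
    have hz : a⁻¹ * (g * b * g⁻¹) ∈ Subgroup.center G := QuotientGroup.eq.1 he.symm
    have hcomm : Commute a (g * b * g⁻¹) := by
      have := (Commute.refl a).mul_right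
        (show Commute a (a⁻¹ * (g * b * g⁻¹)) from Subgroup.mem_center_iff.1 hz a)
      rwa [mul_inv_cancel_left] at this
    refine hg (hstab g ?_)
    by_contra hmove
    exact hyp.not_commute hA (hyp.conj A hA g) (Ne.symm hmove) ha ha1 (conj_mem_cj hb)
      (by simpa using hb1) hcomm

end Cfsg.Agent.H73.PairGen
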