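import Mathlib

/-!
# Automorphisms of odd order of nilpotent groups with commuting or anisotropic displacements
-/

set_option linter.style.haveILetI false
set_option linter.unusedSectionVars false

namespace Cfsg.Agent.H73.PairGen

open scoped commutatorElement

universe u

variable {N : Type u} [Group N]

/-- The displacements of `φ`. -/
def dS (φ : MulAut N) : Set N := Set.range fun y => y⁻¹ * φ y

/-- The fixed points of `φ`. -/
def fx (φ : MulAut N) : Subgroup N where
  carrier := {y | φ y = y}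
  one_mem' := map_one φ
  mul_mem' {a b} ha hb := by
    show φ (a * b) = a * b
    rw [map_mul, show φ a = a from ha, show φ b = b from hb]
  inv_mem' {a} ha := by
    show φ a⁻¹ = a⁻¹
    rw [map_inv, show φ a = a from ha]

theorem mem_fx {φ : MulAut N} {y : N} : y ∈ fx φ ↔ φ y = y := Iff.rfl

/-- Every element moved by `φ` has an orbit which does not commute. -/
def Aniso (φ : MulAut N) : Prop :=
  ∀ y : N, φ y ≠ y → ∃ i j : ℕ, ¬ Commute ((φ ^ i) y) ((φ ^ j) y)

theorem pow_apply_fixed {φ : MulAut N} {y : N} (h : φ y = y) : ∀ n : ℕ, (φ ^ n) y = y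
  | 0 => rfl
  | n + 1 => by rw [pow_succ, MulAut.mul_apply, h, pow_apply_fixed h n]

theorem fixed_of_sq {p : ℕ} (hp : Odd p) {φ : MulAut N} (hφ : φ ^ p = 1) {y : N}
    (h : φ (φ y) = y) : φ y = y := by
  obtain ⟨j, rfl⟩ := hp
  have h2 : (φ ^ 2) y = y := by rw [pow_two]; exact h
  have h1 : (φ ^ (2 * j + 1)) y = y := by rw [hφ]; rfl
  rw [pow_succ', MulAut.mul_apply, pow_mul, pow_apply_fixed h2 j] at h1
  exact h1

/-- On an abelian group, an automorphism whose displacements generate has no fixed points. -/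
theorem fixed_eq_one_of_comm [Finite N] (hcomm : ∀ a b : N, Commute a b) (φ : MulAut N)
    (hS : Subgroup.closure (dS φ) = ⊤) {y : N} (hy : φ y = y) : y = 1 := by
  let f : N →* N := MonoidHom.mk' (fun a => a⁻¹ * φ a) fun a b => by
    rw [mul_inv_rev, map_mul, mul_assoc, ← mul_assoc a⁻¹, ← mul_assoc b⁻¹,
      (hcomm b⁻¹ (a⁻¹ * φ a)).eq, mul_assoc]
  have hsurj : Function.Surjective f := by
    rw [← MonoidHom.range_eq_top, eq_top_iff, ← hS, Subgroup.closure_le]
    rintro _ ⟨a, rfl⟩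
    exact ⟨a, rfl⟩
  refine Finite.injective_iff_surjective.2 hsurj ?_
  show y⁻¹ * φ y = (1 : N)⁻¹ * φ 1
  rw [hy, map_one, inv_mul_cancel, inv_one, one_mul]

/-- The automorphism induced on the quotient by an invariant normal subgroup. -/
noncomputable def quotAut (φ : MulAut N) (M : Subgroup N) [M.Normal]
    (h : M.map (φ : N →* N) = M) : MulAut (N ⧸ M) :=
  QuotientGroup.congr M M φ h

theorem quotAut_mk (φ : MulAut N) (M : Subgroup N) [M.Normal]
    (h : M.map (φ : N →* N) = M) (a : N) :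
    quotAut φ M h (QuotientGroup.mk a) = QuotientGroup.mk (φ a) := rfl

theorem quotAut_pow_mk (φ : MulAut N) (M : Subgroup N) [M.Normal]
    (h : M.map (φ : N →* N) = M) : ∀ (n : ℕ) (a : N),
    (quotAut φ M h ^ n) (QuotientGroup.mk a) = QuotientGroup.mk ((φ ^ n) a)
  | 0, a => rfl
  | n + 1, a => by
    rw [pow_succ, pow_succ, MulAut.mul_apply, MulAut.mul_apply, quotAut_mk,
      quotAut_pow_mk φ M h n]

theorem quotAut_dS (φ : MulAut N) (M : Subgroup N) [M.Normal]
    (h : M.map (φ : N →* N) = M) (hS : Subgroup.closure (dS φ) = ⊤) :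
    Subgroup.closure (dS (quotAut φ M h)) = ⊤ := by
  rw [eq_top_iff, ← Subgroup.map_top_of_surjective (QuotientGroup.mk' M)
    (QuotientGroup.mk'_surjective M), ← hS, MonoidHom.map_closure]
  refine Subgroup.closure_mono ?_
  rintro _ ⟨_, ⟨a, rfl⟩, rfl⟩
  exact ⟨QuotientGroup.mk a, rfl⟩

theorem map_eq_of_char (φ : MulAut N) (M : Subgroup N) [hM : M.Characteristic] :
    M.map (φ : N →* N) = M :=
  Subgroup.characteristic_iff_map_eq.1 hM φ

/-- Bimultiplicativity of a central commutator, left variable. -/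
theorem commutator_mul_left {a b g : N} (h : ⁅b, g⁆ ∈ Subgroup.center N) :
    ⁅a * b, g⁆ = ⁅a, g⁆ * ⁅b, g⁆ := by
  have h' := Subgroup.mem_center_iff.1 h
  have e : ⁅a * b, g⁆ = (a * ⁅b, g⁆) * (g * a⁻¹ * g⁻¹) := by
    simp only [commutatorElement_def]; group
  rw [e, h' a, mul_assoc]
  rw [← h' (a * (g * a⁻¹ * g⁻¹))]
  simp only [commutatorElement_def]; group

/-- Bimultiplicativity of a central commutator, right variable. -/
theorem commutator_mul_right {a g h : N} (hc : ⁅a, h⁆ ∈ Subgroup.center N) :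
    ⁅a, g * h⁆ = ⁅a, g⁆ * ⁅a, h⁆ := by
  have h' := Subgroup.mem_center_iff.1 hc
  have e : ⁅a, g * h⁆ = ⁅a, g⁆ * (g * ⁅a, h⁆) * g⁻¹ := by
    simp only [commutatorElement_def]; group
  rw [e, h' g]
  group

/-- The displacements commute with their images: no fixed points. -/
theorem fixed_eq_one [Finite N] {q : ℕ} [Fact q.Prime] (hN : IsPGroup q N) {p : ℕ} (hp : Odd p)
    (φ : MulAut N) (hφ : φ ^ p = 1) (hS : Subgroup.closure (dS φ) = ⊤)
    (hcomm : ∀ s ∈ dS φ, Commute s (φ s)) {y : N} (hy : φ y = y) : y = 1 := by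
  generalize hn : Nat.card N = n
  induction n using Nat.strong_induction_on generalizing N with
  | _ n ih =>
  subst hn
  by_cases hab : ∀ a b : N, Commute a b
  · exact fixed_eq_one_of_comm hab φ hS hy
  simp only [not_forall] at hab
  obtain ⟨a₁, b₁, hab⟩ := hab
  set Z := Subgroup.center N with hZ
  -- the second centre is larger than the centre
  set K := (Subgroup.center (N ⧸ Z)).comap (QuotientGroup.mk' Z) with hK
  have hKmem : ∀ a ∈ K, ∀ g : N, ⁅a, g⁆ ∈ Z := by
    intro a ha g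
    have h1 := Subgroup.mem_center_iff.1 (Subgroup.mem_comap.1 ha) (QuotientGroup.mk g)
    rw [← QuotientGroup.eq_one_iff, commutatorElement_def]
    simp only [QuotientGroup.mk_mul, QuotientGroup.mk_inv, QuotientGroup.mk'_apply] at h1 ⊢
    rw [← h1, mul_inv_cancel_right, mul_inv_cancel]
  obtain ⟨a₀, ha₀, g₀, hne₀⟩ : ∃ a ∈ K, ∃ g : N, ⁅a, g⁆ ≠ 1 := by
    haveI : Nontrivial (N ⧸ Z) := by
      rw [← Finite.one_lt_card_iff_nontrivial, ← Subgroup.index_eq_card]
      refine (Nat.two_le_iff _).2 ⟨Subgroup.index_ne_zero_of_finite, fun h => ?_⟩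
      have htop := Subgroup.index_eq_one.1 h
      exact hab (Subgroup.mem_center_iff.1 (htop ▸ Subgroup.mem_top b₁ : b₁ ∈ Z) a₁)
    haveI := IsPGroup.center_nontrivial (hN.to_quotient Z)
    obtain ⟨⟨c, hc⟩, hc1⟩ := exists_ne (1 : Subgroup.center (N ⧸ Z))
    obtain ⟨a, rfl⟩ := QuotientGroup.mk_surjective c
    refine ⟨a, hc, ?_⟩
    by_contra hcon
    simp only [not_exists, not_not] at hcon
    have : a ∈ Z := Subgroup.mem_center_iff.2 fun g =>
      (commutatorElement_eq_one_iff_commute.1 (hcon g)).eq.symm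
    exact hc1 (Subtype.ext ((QuotientGroup.eq_one_iff a).2 this))
  set T := {c : N | ∃ a ∈ K, ∃ g : N, ⁅a, g⁆ = c} with hT
  set M := Subgroup.closure T with hM
  have hMZ : M ≤ Z := (Subgroup.closure_le _).2 fun c ⟨a, ha, g, hc⟩ => hc ▸ hKmem a ha g
  haveI : M.Normal := ⟨fun c hc g => by
    rwa [Subgroup.mem_center_iff.1 (hMZ hc) g, mul_inv_cancel_right]⟩
  haveI hKc : K.Characteristic := by
    refine Subgroup.characteristic_iff_le_comap.2 fun e a ha => ?_
    rw [Subgroup.mem_comap, hK, Subgroup.mem_comap, Subgroup.mem_center_iff]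
    intro c
    obtain ⟨g, rfl⟩ := QuotientGroup.mk_surjective c
    obtain ⟨g', rfl⟩ := e.surjective g
    have h1 : e (g' * a * g'⁻¹ * a⁻¹) ∈ Z := by
      have := hKmem a ha g'
      have h2 : g' * a * g'⁻¹ * a⁻¹ ∈ Z := by
        rw [← inv_mem_iff]; simpa [commutatorElement_def, mul_assoc] using this
      exact Subgroup.characteristic_iff_le_comap.1 inferInstance e h2
    rw [← QuotientGroup.eq_one_iff] at h1
    simp only [map_mul, map_inv, QuotientGroup.mk_mul, QuotientGroup.mk_inv] at h1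
    rw [mul_inv_eq_one, mul_inv_eq_iff_eq_mul] at h1
    simpa using h1
  have hMφ : M.map (φ : N →* N) = M := by
    refine Subgroup.eq_of_le_of_card_ge ?_ (Subgroup.card_map_of_injective φ.injective).ge
    rw [hM, MonoidHom.map_closure]
    refine Subgroup.closure_mono ?_
    rintro _ ⟨_, ⟨a, ha, g, rfl⟩, rfl⟩
    exact ⟨φ a, Subgroup.characteristic_iff_le_comap.1 hKc φ ha, φ g,
      (map_commutatorElement φ a g).symm⟩
  have hlt : Nat.card (N ⧸ M) < Nat.card N := by
    rw [Subgroup.card_eq_card_quotient_mul_card_subgroup M]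
    refine (Nat.lt_mul_iff_one_lt_right Nat.card_pos).2 ?_
    rw [Subgroup.one_lt_card_iff_ne_bot]
    exact fun h => hne₀ (by
      have : ⁅a₀, g₀⁆ ∈ M := Subgroup.subset_closure ⟨a₀, ha₀, g₀, rfl⟩
      rwa [h, Subgroup.mem_bot] at this)
  set ψ := quotAut φ M hMφ with hψdef
  have hψ : ψ ^ p = 1 := MulEquiv.ext fun c => by
    obtain ⟨a, rfl⟩ := QuotientGroup.mk_surjective c
    rw [quotAut_pow_mk, hφ]; rfl
  have hq : ∀ a : N, φ a * a⁻¹ ∈ M → a ∈ M := fun a ha => by
    refine (QuotientGroup.eq_one_iff a).1 (ih _ hlt (hN.to_quotient M) ψ hψ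
      (quotAut_dS φ M hMφ hS) ?_ ?_ rfl)
    · rintro _ ⟨c, rfl⟩
      obtain ⟨b, rfl⟩ := QuotientGroup.mk_surjective c
      exact (hcomm _ ⟨b, rfl⟩).map (QuotientGroup.mk' M)
    · rw [quotAut_mk, QuotientGroup.eq]
      have : (φ a)⁻¹ * a = (φ a)⁻¹ * (φ a * a⁻¹)⁻¹ * (φ a)⁻¹⁻¹ := by group
      rw [this]
      exact Subgroup.Normal.conj_mem inferInstance _ (inv_mem ha) _
  have hsurj : ∀ g : N, ∃ b, ∃ m ∈ M, g = b⁻¹ * φ b * m := by
    have hinj : Function.Injective fun c : N ⧸ M => c⁻¹ * ψ c := by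
      intro c d h
      obtain ⟨a, rfl⟩ := QuotientGroup.mk_surjective c
      obtain ⟨b, rfl⟩ := QuotientGroup.mk_surjective d
      have h' : ψ (QuotientGroup.mk (a * b⁻¹) : N ⧸ M) = QuotientGroup.mk (a * b⁻¹) := by
        simp only [QuotientGroup.mk_mul, QuotientGroup.mk_inv, map_mul, map_inv]
        rw [inv_mul_eq_iff_eq_mul] at h
        rw [h]; group
      have h2 : a * b⁻¹ ∈ M := by
        refine hq _ ?_
        rw [quotAut_mk] at h'
        rw [← QuotientGroup.eq_one_iff, QuotientGroup.mk_mul, h', QuotientGroup.mk_inv,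
          mul_inv_cancel]
      rw [← QuotientGroup.eq_one_iff, QuotientGroup.mk_mul, QuotientGroup.mk_inv,
        mul_inv_eq_one] at h2
      exact h2
    intro g
    obtain ⟨c, hc⟩ := Finite.injective_iff_surjective.1 hinj (QuotientGroup.mk g)
    obtain ⟨b, rfl⟩ := QuotientGroup.mk_surjective c
    refine ⟨b, (b⁻¹ * φ b)⁻¹ * g, ?_, by group⟩
    rw [← QuotientGroup.eq]
    exact hc
  have hsq : ∀ g : N, Commute g (φ g) := by
    intro g
    obtain ⟨b, m, hm, rfl⟩ := hsurj g
    have hm' : φ m ∈ Z := hMZ (hMφ.le (Subgroup.mem_map_of_mem _ hm))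
    have hs := hcomm _ ⟨b, rfl⟩
    rw [map_mul φ (b⁻¹ * φ b) m]
    exact Commute.mul_left (hs.mul_right (Subgroup.mem_center_iff.1 hm' _))
      (show Commute m _ from (Subgroup.mem_center_iff.1 (hMZ hm) _).symm)
  have hsym : ∀ a ∈ K, ∀ g : N, ⁅a, φ g⁆ = ⁅φ a, g⁆ := by
    intro a ha g
    have hc1 : ⁅a, φ g⁆ ∈ Z := hKmem a ha _
    have hc2 : ⁅φ a, g⁆ ∈ Z := hKmem _ (Subgroup.characteristic_iff_le_comap.1 hKc φ ha) _
    have h1 := (hsq (a * g)).eq
    rw [map_mul] at h1
    have e1 : g * φ a = ⁅φ a, g⁆⁻¹ * (φ a * g) := by simp only [commutatorElement_def]; group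
    have e2 : a * φ g = ⁅a, φ g⁆ * (φ g * a) := by simp only [commutatorElement_def]; group
    have hcc : ⁅φ a, g⁆⁻¹ ∈ Z := inv_mem hc2
    have key : a * g * (φ a * φ g) =
        ⁅φ a, g⁆⁻¹ * ⁅a, φ g⁆ * (φ a * φ g * (a * g)) := by
      calc a * g * (φ a * φ g) = a * (g * φ a) * φ g := by group
        _ = a * ⁅φ a, g⁆⁻¹ * (φ a * (g * φ g)) := by rw [e1]; group
        _ = ⁅φ a, g⁆⁻¹ * ((a * φ a) * (g * φ g)) := by
            rw [Subgroup.mem_center_iff.1 hcc a]; group
        _ = ⁅φ a, g⁆⁻¹ * ((φ a * a) * (φ g * g)) := by rw [(hsq a).eq, (hsq g).eq]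
        _ = ⁅φ a, g⁆⁻¹ * (φ a * (a * φ g) * g) := by group
        _ = ⁅φ a, g⁆⁻¹ * (φ a * ⁅a, φ g⁆ * (φ g * a * g)) := by rw [e2]; group
        _ = _ := by rw [Subgroup.mem_center_iff.1 hc1 (φ a)]; group
    rw [← h1] at key
    have := mul_eq_right.1 key.symm
    rwa [inv_mul_eq_one, eq_comm] at this
  let f : M →* M := MonoidHom.mk' (fun m => ⟨(m : N)⁻¹ * φ m,
      mul_mem (inv_mem m.2) (hMφ.le (Subgroup.mem_map_of_mem _ m.2))⟩) fun m m' => Subtype.ext (by
    simp only [Subgroup.coe_mul, map_mul, mul_inv_rev]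
    rw [show (m' : N)⁻¹ * (m : N)⁻¹ * (φ m * φ m') =
        (m' : N)⁻¹ * ((m : N)⁻¹ * φ m) * φ m' by group,
      ← Subgroup.mem_center_iff.1 (inv_mem (hMZ m'.2)) ((m : N)⁻¹ * φ m)]
    group)
  have hfsurj : Function.Surjective f := by
    rw [← MonoidHom.range_eq_top, eq_top_iff]
    intro m _
    suffices h : M ≤ f.range.map M.subtype by
      obtain ⟨m', hm', he⟩ := h m.2
      exact (Subtype.ext he : m' = m) ▸ hm'
    refine (Subgroup.closure_le _).2 ?_
    rintro _ ⟨a, ha, g, rfl⟩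
    -- `g` is a displacement of `φ²` modulo `M`
    have hinj2 : Function.Injective fun c : N ⧸ M => c⁻¹ * ψ (ψ c) := by
      intro c d h
      have h' : ψ (ψ (c * d⁻¹)) = c * d⁻¹ := by
        rw [inv_mul_eq_iff_eq_mul] at h
        simp only [map_mul, map_inv]
        rw [h]; group
      have h3 := fixed_of_sq hp hψ h'
      obtain ⟨b, hb⟩ := QuotientGroup.mk_surjective (c * d⁻¹)
      rw [← hb, quotAut_mk] at h3
      have h4 : b ∈ M := hq b (by
        rw [← QuotientGroup.eq_one_iff, QuotientGroup.mk_mul, h3, QuotientGroup.mk_inv,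
          mul_inv_cancel])
      rw [← QuotientGroup.eq_one_iff, hb, mul_inv_eq_one] at h4
      exact h4
    obtain ⟨c, hc⟩ := Finite.injective_iff_surjective.1 hinj2 (QuotientGroup.mk g)
    obtain ⟨b, rfl⟩ := QuotientGroup.mk_surjective c
    obtain ⟨m', hm', rfl⟩ : ∃ m ∈ M, g = b⁻¹ * φ (φ b) * m :=
      ⟨(b⁻¹ * φ (φ b))⁻¹ * g, QuotientGroup.eq.1 hc, by group⟩
    have hab1 : ∀ z ∈ Z, ⁅a, z⁆ = 1 := fun z hz =>
      commutatorElement_eq_one_iff_commute.2 (Subgroup.mem_center_iff.1 hz a)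
    have e : ⁅a, b⁻¹ * φ (φ b) * m'⁆ = ⁅a, b⁆⁻¹ * φ ⁅a, b⁆ := by
      rw [commutator_mul_right (hKmem a ha m'), hab1 m' (hMZ hm'), mul_one,
        commutator_mul_right (hKmem a ha _)]
      congr 1
      · have h5 := commutator_mul_right (g := b⁻¹) (h := b) (hKmem a ha b)
        rw [inv_mul_cancel, commutatorElement_one_right] at h5
        exact (inv_eq_of_mul_eq_one_left h5.symm).symm
      · rw [hsym a ha (φ b), map_commutatorElement]
    exact ⟨f ⟨⁅a, b⁆, Subgroup.subset_closure ⟨a, ha, b, rfl⟩⟩, ⟨_, rfl⟩, e.symm⟩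
  have hyM : y ∈ M := hq y (by rw [hy, mul_inv_cancel]; exact one_mem M)
  have : f ⟨y, hyM⟩ = f 1 := Subtype.ext (by simp [f, hy])
  simpa using congrArg Subtype.val (Finite.injective_iff_surjective.2 hfsurj this)

section Anisotropic

variable [Finite N] {q : ℕ} [Fact q.Prime] (hN : IsPGroup q N) (φ : MulAut N)
  (hS : Subgroup.closure (dS φ) = ⊤)
  (han : ∀ y : N, y⁻¹ * φ y ≠ 1 →
    ∃ i j : ℕ, ¬ Commute ((φ ^ i) (y⁻¹ * φ y)) ((φ ^ j) (y⁻¹ * φ y)))

include han in
theorem eq_one_of_fixed_dS {y : N} (h : φ (y⁻¹ * φ y) = y⁻¹ * φ y) : φ y = y := by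
  by_contra hne
  obtain ⟨i, j, hij⟩ := han y (fun e => hne (inv_mul_eq_one.1 e).symm)
  rw [pow_apply_fixed h, pow_apply_fixed h] at hij
  exact hij (Commute.refl _)

include hN hS han in
theorem commutator_le_fx : commutator N ≤ fx φ ∧ commutator N ≤ Subgroup.center N := by
  haveI := hN.isNilpotent
  set L := (⊤ : Subgroup N).lowerCentralSeries with hL
  have hcentral : ∀ T : Subgroup N, T.Normal → T ≤ fx φ → T ≤ Subgroup.center N := by
    intro T hT hTφ z hz
    refine Subgroup.mem_center_iff.2 fun g => ?_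
    have hg : g ∈ Subgroup.centralizer ({z} : Set N) := by
      have htop : Subgroup.closure (dS φ) ≤ Subgroup.centralizer ({z} : Set N) := by
        rw [Subgroup.closure_le]
        rintro _ ⟨y, rfl⟩
        rw [SetLike.mem_coe, Subgroup.mem_centralizer_singleton_iff]
        have h1 : φ (y * z * y⁻¹) = y * z * y⁻¹ := hTφ (hT.conj_mem z hz y)
        rw [map_mul, map_mul, map_inv, show φ z = z from hTφ hz] at h1
        calc y⁻¹ * φ y * z = y⁻¹ * (φ y * z * (φ y)⁻¹) * φ y := by group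
          _ = z * (y⁻¹ * φ y) := by rw [h1]; group
      exact htop (hS ▸ Subgroup.mem_top g)
    exact Subgroup.mem_centralizer_singleton_iff.1 hg
  have hinv : ∀ k, ∀ z ∈ L k, ∀ n : ℕ, (φ ^ n) z ∈ L k := fun k z hz n =>
    Subgroup.characteristic_iff_le_comap.1
      (inferInstance : ((⊤ : Subgroup N).lowerCentralSeries k).Characteristic) (φ ^ n) hz
  suffices h1 : L 1 ≤ fx φ by
    rw [show L 1 = commutator N from Subgroup.top_lowerCentralSeries_one] at h1
    exact ⟨h1, hcentral _ inferInstance h1⟩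
  by_contra h1
  classical
  have hex : ∃ k, L (k + 1) ≤ fx φ := ⟨Group.nilpotencyClass N, by
    rw [hL, (Subgroup.lowerCentralSeries_eq_bot_iff_nilpotencyClass_le).2 (Nat.le_succ _)]
    exact bot_le⟩
  have hk := Nat.find_spec hex
  have hk1 : Nat.find hex ≠ 0 := fun h => h1 (by rw [h] at hk; exact hk)
  have hkmin := Nat.find_min hex (Nat.sub_lt (Nat.pos_of_ne_zero hk1) one_pos)
  rw [Nat.sub_add_cancel (Nat.one_le_iff_ne_zero.2 hk1)] at hkmin
  generalize Nat.find hex = k at hk hk1 hkmin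
  obtain ⟨a, ha, ha'⟩ := SetLike.not_le_iff_exists.1 hkmin
  have hbot : L (k + 1 + 1) = ⊥ := by
    show ⁅L (k + 1), (⊤ : Subgroup N)⁆ = ⊥
    rw [Subgroup.commutator_eq_bot_iff_le_centralizer]
    exact (hcentral _ inferInstance hk).trans (Subgroup.center_le_centralizer _)
  have habel : ⁅L k, L k⁆ = ⊥ := by
    refine le_bot_iff.1 (le_trans (Subgroup.commutator_mono
      (Subgroup.lowerCentralSeries_antitone ⊤ (Nat.one_le_iff_ne_zero.2 hk1) : L k ≤ L 1) le_rfl) ?_)
    refine le_of_eq ?_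
    show ⁅⁅(⊤ : Subgroup N), ⊤⁆, L k⁆ = ⊥
    refine Subgroup.commutator_commutator_eq_bot_of_rotate ?_ ?_
    · rw [Subgroup.commutator_comm ⊤ (L k)]
      exact hbot
    · exact hbot
  have hcomm : ∀ u ∈ L k, ∀ v ∈ L k, Commute u v := fun u hu v hv =>
    commutatorElement_eq_one_iff_commute.1
      (Subgroup.mem_bot.1 (habel ▸ Subgroup.commutator_mem_commutator hu hv))
  obtain ⟨i, j, hij⟩ := han a (fun e => ha' (inv_mul_eq_one.1 e).symm)
  have hs : a⁻¹ * φ a ∈ L k := mul_mem (inv_mem ha) (by simpa using hinv k a ha 1)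
  exact hij (hcomm _ (hinv k _ hs i) _ (hinv k _ hs j))

include hN hS han in
theorem fx_le_center : fx φ ≤ Subgroup.center N := by
  obtain ⟨h1, h2⟩ := commutator_le_fx hN φ hS han
  intro z hz
  refine h2 ?_
  rw [← QuotientGroup.eq_one_iff]
  refine fixed_eq_one_of_comm (N := N ⧸ commutator N) (fun a b => ?_)
    (quotAut φ _ (map_eq_of_char φ _)) (quotAut_dS φ _ _ hS) ?_
  · induction a using QuotientGroup.induction_on with
    | H a => induction b using QuotientGroup.induction_on with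
      | H b =>
        show (QuotientGroup.mk (a * b) : N ⧸ commutator N) = QuotientGroup.mk (b * a)
        rw [QuotientGroup.eq, commutator_def]
        have : (a * b)⁻¹ * (b * a) = ⁅b⁻¹, a⁻¹⁆ := by simp only [commutatorElement_def]; group
        rw [this]
        exact Subgroup.commutator_mem_commutator (Subgroup.mem_top _) (Subgroup.mem_top _)
  · rw [quotAut_mk, show φ z = z from hz]

include hN hS han in
/-- Every element is a displacement times a fixed element. -/
theorem exists_dS_mul (g : N) : ∃ y z, φ z = z ∧ g = y⁻¹ * φ y * z := by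
  have hcen := fx_le_center hN φ hS han
  haveI : (fx φ).Normal := ⟨fun c hc g => by
    rwa [Subgroup.mem_center_iff.1 (hcen hc) g, mul_inv_cancel_right]⟩
  have hM : (fx φ).map (φ : N →* N) = fx φ := by
    refine Subgroup.eq_of_le_of_card_ge ?_ (Subgroup.card_map_of_injective φ.injective).ge
    rintro _ ⟨z, hz, rfl⟩
    show φ (φ z) = φ z
    exact congrArg φ hz
  set ψ := quotAut φ _ hM
  have hinj : Function.Injective fun c : N ⧸ fx φ => c⁻¹ * ψ c := by
    intro c d h
    obtain ⟨a, rfl⟩ := QuotientGroup.mk_surjective c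
    obtain ⟨b, rfl⟩ := QuotientGroup.mk_surjective d
    have h' : ψ (QuotientGroup.mk (a * b⁻¹) : N ⧸ fx φ) = QuotientGroup.mk (a * b⁻¹) := by
      simp only [QuotientGroup.mk_mul, QuotientGroup.mk_inv, map_mul, map_inv]
      rw [inv_mul_eq_iff_eq_mul] at h
      rw [h]; group
    rw [quotAut_mk, eq_comm, QuotientGroup.eq] at h'
    have h2 : a * b⁻¹ ∈ fx φ := eq_one_of_fixed_dS φ han (mem_fx.1 h')
    rw [← QuotientGroup.eq_one_iff, QuotientGroup.mk_mul, QuotientGroup.mk_inv,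
      mul_inv_eq_one] at h2
    exact h2
  obtain ⟨c, hc⟩ := Finite.injective_iff_surjective.1 hinj (QuotientGroup.mk g)
  obtain ⟨b, rfl⟩ := QuotientGroup.mk_surjective c
  exact ⟨b, (b⁻¹ * φ b)⁻¹ * g, mem_fx.1 (QuotientGroup.eq.1 hc), by group⟩

include hN hS han in
theorem aniso : Aniso φ := by
  intro g hg
  obtain ⟨y, z, hz, rfl⟩ := exists_dS_mul hN φ hS han g
  have hcen := Subgroup.mem_center_iff.1 (fx_le_center hN φ hS han hz)
  obtain ⟨i, j, hij⟩ := han y (fun e => hg (by rw [map_mul, e, map_one, hz]))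
  refine ⟨i, j, fun hc => hij ?_⟩
  rw [map_mul (φ ^ i), map_mul (φ ^ j), pow_apply_fixed hz, pow_apply_fixed hz] at hc
  have h1 : Commute z⁻¹ ((φ ^ j) (y⁻¹ * φ y) * z) := Commute.inv_left (hcen _).symm
  have h2 := hc.mul_left h1
  rw [mul_inv_cancel_right] at h2
  have h3 : Commute ((φ ^ i) (y⁻¹ * φ y)) z⁻¹ := Commute.inv_right (hcen _)
  have h4 := h2.mul_right h3
  rwa [mul_inv_cancel_right] at h4

end Anisotropic

end Cfsg.Agent.H73.PairGen
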