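import Cfsg.Agent.H73.PairGen.Inverted

/-!
# A group generated by pairwise isomorphic pairs of odd order has odd order
-/

set_option linter.style.haveILetI false
set_option linter.unusedSectionVars false

namespace Cfsg.Agent.H73.PairGen

open MonoidAlgebra Cores BlockBasic CharBasic
open scoped commutatorElement

universe u

variable {G : Type u} [Group G] [Finite G] {p q : ℕ} {D : Set (Subgroup G)}

/-- `t * a` is conjugate to `t` times an element commuting with it. -/
theorem exists_conj_decomp {t : G} (ht : t * t = 1) {L : Subgroup G} (htL : cj t L = L)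
    (hL : Odd (Nat.card L)) {a : G} (ha : a ∈ L) :
    ∃ l ∈ L, ∃ o ∈ L, Commute t o ∧ l * (t * a) * l⁻¹ = t * o := by
  have hti := inv_eq_self_of_sq ht
  have hconj : ∀ v ∈ L, t * v * t ∈ L := fun v hv => by
    have := conj_mem_cj (g := t) hv
    rwa [hti, htL] at this
  set d := t * a with hd
  set w := d * d with hw
  have hwL : w ∈ L := by
    rw [hw, hd, show t * a * (t * a) = t * a * t * a by group]
    exact mul_mem (hconj a ha) ha
  obtain ⟨k, hk⟩ := odd_orderOf_of_mem hL hwL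
  set t' := d ^ (2 * k + 1) with ht'
  have ht'2 : t' * t' = 1 := by
    rw [ht', ← pow_add, show 2 * k + 1 + (2 * k + 1) = 2 * (2 * k + 1) by ring, pow_mul, sq, ← hw,
      ← hk, pow_orderOf_eq_one]
  have ht'e : t' = t * (a * w ^ k) := by
    rw [ht', pow_succ', pow_mul, sq, ← hw, hd, mul_assoc]
  have hl1 : a * w ^ k ∈ L := mul_mem ha (pow_mem hwL k)
  have hinv : t * (a * w ^ k) * t⁻¹ = (a * w ^ k)⁻¹ := by
    refine eq_inv_of_mul_eq_one_left ?_
    rw [hti, show t * (a * w ^ k) * t * (a * w ^ k) = t * (a * w ^ k) * (t * (a * w ^ k)) by group,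
      ← ht'e, ht'2]
  obtain ⟨i, hi, hi'⟩ := exists_sq_inverted (odd_orderOf_of_mem hL hl1) hinv
  set r := (a * w ^ k) ^ i
  have hr : r ∈ L := pow_mem hl1 i
  rw [hti] at hi'
  have hrt : t * r = r⁻¹ * t := by
    rw [← hi', mul_assoc _ t t, ht, mul_one]
  have hrt' : t * r⁻¹ = r * t := by
    have := congrArg (fun v => r * v * r⁻¹) hrt
    simpa [mul_assoc] using this.symm
  have hconjt : r * t' * r⁻¹ = t := by
    rw [ht'e, ← hi, sq]
    calc r * (t * (r * r)) * r⁻¹ = r * (t * r) := by group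
      _ = t := by rw [hrt]; group
  refine ⟨r, hr, t * (r * d * r⁻¹), ?_, ?_, by rw [← mul_assoc t t, ht, one_mul]⟩
  · rw [hd, show t * (r * (t * a) * r⁻¹) = (t * r * t) * a * r⁻¹ by group, hi']
    exact mul_mem (mul_mem (inv_mem hr) ha) (inv_mem hr)
  · have hc : Commute t (r * d * r⁻¹) := by
      rw [← hconjt]
      exact ((Commute.self_pow d (2 * k + 1)).symm.map (MulAut.conj r).toMonoidHom)
    exact (Commute.refl t).mul_right hc

namespace Setup

variable {A : Subgroup G} {x t : G} (S : Setup q p D A x t)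
include S

/-- The elements which have to be shown to lie in an odd normal subgroup of `C(t)`. -/
def TSet (_S : Setup q p D A x t) : Set G :=
  {n | ∃ B ∈ D, A ≠ B ∧ cj t (A ⊔ B) = A ⊔ B ∧ n ∈ ⁅A ⊔ B, A ⊔ B⁆ ∧ Commute n x ∧ Commute n t}

theorem TSet_block (hev : ¬ Odd (Nat.card G)) {n : G} (hn : n ∈ S.TSet)
    (hnc : n ∉ Subgroup.center G) :
    Block D A x (Gc D n) ∧ n ∈ Zp x t (Gc D n) ∧ n ∈ Gc D n := by
  obtain ⟨B, hB, hAB, -, hn1, hn2, hn3⟩ := hn
  have hL : A ⊔ B ≠ ⊤ := fun h => hev (by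
    have := S.odd A S.memA B hB hAB
    rwa [h, Subgroup.card_top] at this)
  obtain ⟨hb, hle⟩ := S.block_Gc hL (gen_pair S.memA hB) le_sup_left hn1 hn2 hnc
  exact ⟨hb, mem_Zp.2 ⟨Subgroup.commutator_mono hle hle hn1, hn2, hn3⟩,
    hle (commutator_self_le _ hn1)⟩

theorem block_unique (hab : ¬ AbPairs D) (hev : ¬ Odd (Nat.card G)) {b b' : Subgroup G}
    (hb : Block D A x b) (hb' : Block D A x b') (hex : ∃ z ∈ Zp x t b, z ∉ Subgroup.center G)
    (hex' : ∃ z ∈ Zp x t b', z ∉ Subgroup.center G) : b = b' := by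
  by_cases hcase : ∃ c0 ∈ ⁅Gc D t, Gc D t⁆, Commute c0 x ∧ c0 ∉ Subgroup.center G
  · obtain ⟨c0, h1, h2, h3⟩ := hcase
    rw [S.block_eq_of_noncentral hab h1 h2 h3 hb hex,
      S.block_eq_of_noncentral hab h1 h2 h3 hb' hex']
  simp only [not_exists, not_and, not_not] at hcase
  have hW : ∀ {d : Subgroup G}, Block D A x d → (∃ z ∈ Zp x t d, z ∉ Subgroup.center G) →
      Gc D t ≤ d ∧ ¬ d ≤ Gc D t := by
    rintro d hd ⟨n, hn, hnc⟩
    obtain ⟨hn1, hn2, hn3⟩ := mem_Zp.1 hn
    obtain ⟨m, hm⟩ := S.Zp_pgroup hd ⟨n, hn⟩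
    have hcen : ∀ w ∈ Gc D t, Commute n w := by
      refine S.toQHyp.key (gen_Gc t) (S.solv S.Gc_t_ne_top (gen_Gc t)) S.memA S.A_le_Gc_t
        S.memx S.xne hab (t := 1) (one_mul 1) (cj_one _) (Commute.one_left x)
        (cj_Gc_of_commute S.toQHyp hn3) hn2 (Commute.one_right n)
        ⟨m, by simpa using congrArg Subtype.val hm⟩ ?_
      intro z hz hzx _
      have hzc := Subgroup.mem_center_iff.1 (hcase z hz hzx)
      rw [hzc n, mul_inv_cancel_right, inv_mul_cancel]
      exact Commute.one_right n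
    refine ⟨S.block_eq hd hn1 hn2 hnc ▸ (gen_Gc t).le_Gc hcen, fun h => hnc ?_⟩
    exact hcase n (Subgroup.commutator_mono h h hn1) hn2
  by_contra hne
  exact S.false_of_two_blocks hab hev hb hb' hne (hW hb hex).1 (hW hb' hex').1 (hW hb hex).2

theorem TSet_commute (hev : ¬ Odd (Nat.card G)) {n m : G} (hn : n ∈ S.TSet) (hm : m ∈ S.TSet) :
    Commute n m := by
  by_cases hab : AbPairs D
  · obtain ⟨B, hB, hAB, -, hn1, hn2, -⟩ := hn
    rw [S.toQHyp.ab_trivial (gen_pair S.memA hB) (S.solvable_pair S.memA hB hAB) S.memA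
      le_sup_left S.memx S.xne hab hn1 hn2]
    exact Commute.one_left m
  by_cases hnc : n ∈ Subgroup.center G
  · exact (Subgroup.mem_center_iff.1 hnc m).symm
  by_cases hmc : m ∈ Subgroup.center G
  · exact Subgroup.mem_center_iff.1 hmc n
  obtain ⟨hbn, hzn, -⟩ := S.TSet_block hev hn hnc
  obtain ⟨hbm, hzm, hmm⟩ := S.TSet_block hev hm hmc
  rw [← S.block_unique hab hev hbn hbm ⟨n, hzn, hnc⟩ ⟨m, hzm, hmc⟩] at hmm
  exact commute_of_mem_Gc hmm

theorem exists_R (hev : ¬ Odd (Nat.card G)) :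
    ∃ R : Subgroup G, R ≤ Subgroup.centralizer ({t} : Set G) ∧
      (∀ g, Commute g t → cj g R = R) ∧ Odd (Nat.card R) ∧ Gc D t ≤ R ∧ S.TSet ⊆ R := by
  set K := Subgroup.closure S.TSet with hK
  have hKc : ∀ u ∈ K, ∀ v ∈ K, Commute u v := by
    intro u hu v hv
    have h1 : ∀ n ∈ S.TSet, K ≤ Subgroup.centralizer ({n} : Set G) := fun n hn =>
      (Subgroup.closure_le _).2 fun m hm =>
        Subgroup.mem_centralizer_singleton_iff.2 (S.TSet_commute hev hm hn).eq
    have h2 : K ≤ Subgroup.centralizer ({u} : Set G) := (Subgroup.closure_le _).2 fun m hm =>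
      Subgroup.mem_centralizer_singleton_iff.2
        (Subgroup.mem_centralizer_singleton_iff.1 (h1 m hm hu)).symm
    exact (Subgroup.mem_centralizer_singleton_iff.1 (h2 hv)).symm
  have hKq : IsPGroup q K := by
    rintro ⟨u, hu⟩
    suffices h : ∃ k, u ^ q ^ k = 1 by
      obtain ⟨k, hk⟩ := h
      exact ⟨k, Subtype.ext (by simpa using hk)⟩
    induction hu using Subgroup.closure_induction with
    | mem n hn =>
      obtain ⟨B, hB, hAB, -, hn1, -, -⟩ := hn
      obtain ⟨k, hk⟩ := S.qgroup A S.memA B hB hAB ⟨n, hn1⟩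
      exact ⟨k, by simpa using congrArg Subtype.val hk⟩
    | one => exact ⟨0, one_pow _⟩
    | mul u v hu hv ihu ihv =>
      obtain ⟨i, hi⟩ := ihu
      obtain ⟨j, hj⟩ := ihv
      refine ⟨i + j, ?_⟩
      rw [(hKc u hu v hv).mul_pow, pow_add, pow_mul, hi, one_pow, mul_comm (q ^ i), pow_mul, hj,
        one_pow, one_mul]
    | inv u _ ih =>
      obtain ⟨i, hi⟩ := ih
      exact ⟨i, by rw [inv_pow, hi, inv_one]⟩
  have hKt : K ≤ Subgroup.centralizer ({t} : Set G) :=
    (Subgroup.closure_le _).2 fun n ⟨_, _, _, _, _, _, h⟩ =>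
      Subgroup.mem_centralizer_singleton_iff.2 h.eq
  have hHt : Gc D t ≤ Subgroup.centralizer ({t} : Set G) := fun w hw =>
    Subgroup.mem_centralizer_singleton_iff.2 (commute_of_mem_Gc hw).eq.symm
  have hKn : K ≤ Subgroup.normalizer (Gc D t : Set G) := fun k hk =>
    cj_eq_self_iff.1 (cj_Gc_of_commute S.toQHyp (Subgroup.mem_centralizer_singleton_iff.1 (hKt hk)))
  refine ⟨Gc D t ⊔ K, sup_le hHt hKt, fun g hg => ?_, odd_card_sup hKn
    (S.small _ S.Gc_t_ne_top (gen_Gc t)) ?_, le_sup_left,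
    fun n hn => Subgroup.mem_sup_right (Subgroup.subset_closure hn)⟩
  · refine Subgroup.eq_of_le_of_card_ge ?_ (card_cj g _).ge
    have hgH := cj_Gc_of_commute (D := D) S.toQHyp hg
    have hfix : cj g A ≤ Gc D t := hgH ▸ cj_mono S.A_le_Gc_t
    obtain ⟨h, hh, he⟩ := S.exists_conj_mem S.memA (S.conj A S.memA g) S.A_le_Gc_t hfix
    set g0 := h⁻¹ * g
    have hg0A : cj g0 A = A := by rw [← cj_cj, ← he, cj_inv_cj]
    have hg0t : Commute g0 t := (commute_of_mem_Gc hh).symm.inv_left.mul_left hg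
    have hg0R : cj g0 (Gc D t ⊔ K) ≤ Gc D t ⊔ K := by
      rw [cj_sup, cj_Gc_of_commute S.toQHyp hg0t]
      refine sup_le_sup le_rfl ?_
      rw [cj, hK, MonoidHom.map_closure]
      refine Subgroup.closure_mono ?_
      rintro _ ⟨n, ⟨B, hB, hAB, hBt, hn1, hn2, hn3⟩, rfl⟩
      have hsup : cj g0 (A ⊔ B) = A ⊔ cj g0 B := by rw [cj_sup, hg0A]
      refine ⟨cj g0 B, S.conj B hB g0, fun e => hAB (cj_inj (hg0A.trans e)), ?_, ?_, ?_, ?_⟩
      · rw [← hsup, cj_comm_of_commute hg0t.symm, hBt]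
      · rw [← hsup, ← cj_commutator]; exact conj_mem_cj hn1
      · exact S.commute_conj_x hg0A hn2
      · exact (hg0t.mul_left hn3).mul_left hg0t.inv_left
    rw [show g = h * g0 by simp only [g0]; group, ← cj_cj]
    exact (cj_mono hg0R).trans (cj_of_mem (Subgroup.mem_sup_left hh)).le
  · haveI := Fact.mk S.qprime
    obtain ⟨k, hk⟩ := IsPGroup.iff_card.1 hKq
    rw [hk]
    exact (S.qprime.odd_of_ne_two S.qne_two).pow

/-- Each `t (g x g⁻¹)` is conjugate to `t o` with `o` in `R`. -/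
theorem exists_conj_mem_R {R : Subgroup G}
    (hHR : Gc D t ≤ R) (hTR : S.TSet ⊆ R) (g : G) :
    ∃ l, ∃ o ∈ R, Commute t o ∧ l * (t * (g * x * g⁻¹)) * l⁻¹ = t * o := by
  have ht2 := mul_self_of_orderOf_two S.invol
  set B := cj g A
  have hB := S.conj A S.memA g
  have hxB : g * x * g⁻¹ ∈ B := conj_mem_cj S.memx
  by_cases hBt : cj t B = B
  · have h := S.commute_of_fixed S.memA hB S.tA hBt
    exact ⟨1, _, hHR (le_Gc hB h hxB), h _ hxB, by simp⟩
  have hBt' := S.conj B hB t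
  set L := B ⊔ cj t B with hL
  have hLt : cj t L = L := by rw [hL, cj_sup, cj_cj_of_sq ht2, sup_comm]
  have hLodd := S.odd B hB _ hBt' (Ne.symm hBt)
  obtain ⟨C, ⟨hC, hCL⟩, hCt⟩ := exists_fixed_of_odd_ncard (cj t) (cj_cj_of_sq ht2)
    {C | C ∈ D ∧ C ≤ L} (fun C hC => ⟨S.conj C hC.1 t, hLt ▸ cj_mono hC.2⟩)
    (S.odd_ncard_le hB le_sup_left hLodd)
  have hCc := S.commute_of_fixed S.memA hC S.tA hCt
  obtain ⟨l, hl, o, ho, hto, e⟩ := exists_conj_decomp ht2 hLt hLodd
    (Subgroup.mem_sup_left hxB : g * x * g⁻¹ ∈ L)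
  refine ⟨l, o, ?_, hto, e⟩
  have hBC : B ≠ C := fun h => hBt (by rw [h]; exact hCt)
  have hCB : C ⊔ B = L :=
    (S.line hB hBt' hC hB (Ne.symm hBt) (Ne.symm hBC) hCL le_sup_left)
  obtain ⟨c, hc, n, hn, rfl⟩ := S.exists_mul (gen_pair hB hBt') hC hCL ho
  have hnt : Commute n t := by
    have := ((hCc c hc).inv_right.mul_right hto)
    rw [inv_mul_cancel_left] at this
    exact this.symm
  -- `n` fixes `C`
  have hnC : cj n C = C := by
    by_contra hne
    have hcn : ∀ v ∈ cj n C, Commute t v := fun v hv => by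
      have h1 := hCc _ (mem_cj.1 hv)
      have h2 := (hnt.symm.mul_right h1).mul_right hnt.symm.inv_right
      simpa [mul_assoc] using h2
    have hle : L ≤ Gc D t := le_of_eq_of_le
      (S.line hB hBt' hC (S.conj C hC n) (Ne.symm hBt) (Ne.symm hne) hCL
        (cj_le_of_mem hCL (commutator_self_le _ hn))).symm
      (sup_le (le_Gc hC hCc) (le_Gc (S.conj C hC n) hcn))
    exact hBt (cj_eq_self_of_commute fun v hv =>
      commute_of_mem_Gc (hle (Subgroup.mem_sup_left hv)))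
  obtain ⟨h, hh, he⟩ := S.exists_conj_mem hC S.memA (le_Gc hC hCc) S.A_le_Gc_t
  have hht : Commute h t := (commute_of_mem_Gc hh).symm
  have hnC' : ∀ v ∈ C, Commute n v := fun v hv => by
    have h1 : n * v * n⁻¹ * v⁻¹ ∈ C := mul_mem (hnC ▸ conj_mem_cj hv) (inv_mem hv)
    have h2 : n * v * n⁻¹ * v⁻¹ ∈ ⁅L, L⁆ := by
      rw [← commutatorElement_def]
      exact Subgroup.commutator_mem_commutator (commutator_self_le _ hn) (hCL hv)
    exact commutatorElement_eq_one_iff_commute.1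
      (S.inf_commutator (gen_pair hB hBt') (S.solvable_pair hB hBt' (Ne.symm hBt)) hC hCL h1 h2)
  have hT : h * n * h⁻¹ ∈ S.TSet := by
    have hsup : cj h L = A ⊔ cj h B := by rw [← hCB, cj_sup, he]
    refine ⟨cj h B, S.conj B hB h, fun e' => hBC (cj_inj (e'.symm.trans he.symm)), ?_, ?_, ?_, ?_⟩
    · rw [← hsup, cj_comm_of_commute hht.symm, hLt]
    · rw [← hsup, ← cj_commutator]; exact conj_mem_cj hn
    · rw [commute_conj_iff]
      exact hnC' _ (mem_cj.1 (he.symm ▸ S.memx))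
    · exact (hht.mul_left hnt).mul_left hht.inv_left
  refine mul_mem (hHR (le_Gc hC hCc hc)) ?_
  rw [show n = h⁻¹ * (h * n * h⁻¹) * h by group]
  exact mul_mem (mul_mem (inv_mem (hHR hh)) (hTR hT)) (hHR hh)

theorem odd_card : Odd (Nat.card G) := by
  by_contra hev
  classical
  cases nonempty_fintype G
  haveI : Fact (Nat.Prime 2) := ⟨Nat.prime_two⟩
  obtain ⟨R, hRt, hRn, hRodd, hHR, hTR⟩ := S.exists_R hev
  obtain ⟨M, hM⟩ := exists_isPModular Nat.prime_two
  set C := Subgroup.centralizer ({t} : Set G)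
  haveI : (R.subgroupOf C).Normal := ⟨fun r hr c => by
    rw [Subgroup.mem_subgroupOf] at hr ⊢
    exact (hRn c (Subgroup.mem_centralizer_singleton_iff.1 c.2)).le (conj_mem_cj hr)⟩
  have hconst : ∀ χ ∈ principalBlock M G, ∀ g, (χ : G → ℂ) (t * (g * x * g⁻¹)) = (χ : G → ℂ) t := by
    intro χ hχ g
    obtain ⟨l, o, ho, hto, e⟩ := S.exists_conj_mem_R hHR hTR g
    rw [← IsIrr.isClassFunction χ.2 (t * (g * x * g⁻¹)) l, e]
    refine principalBlock_apply_mul hM (x := t) (e := 1) (by rw [S.invol]; rfl) hχ (R.subgroupOf C)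
      ?_ (y := ⟨o, hRt ho⟩) (Subgroup.mem_subgroupOf.2 ho)
    rw [Nat.card_congr (Subgroup.subgroupOfEquivOfLe hRt).toEquiv]
    exact fun h => Nat.not_even_iff_odd.2 hRodd (even_iff_two_dvd.2 h)
  have hrel : ∀ χ ∈ principalBlock M G, χ ≠ trivialIrr → (χ : G → ℂ) t = 0 := by
    intro χ hχ hχt
    have h0 := irr_one_ne_zero χ.2
    set s : ℂ := ∑ a, (classSum x).coeff a with hs
    have hsne : s ≠ 0 := by
      rw [hs, Finset.sum_congr rfl (g := fun a => if IsConj x a then (1 : ℂ) else 0)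
        (fun a _ => by rw [classSum, coeff_ofFun]; split_ifs <;> rfl), Finset.sum_boole]
      exact Nat.cast_ne_zero.2 (Finset.card_ne_zero.2
        ⟨x, Finset.mem_filter.2 ⟨Finset.mem_univ x, IsConj.refl x⟩⟩)
    have hclx : chiLin (χ : G → ℂ) (classSum x) = s * (χ : G → ℂ) x := by
      rw [chiLin, hs, Finset.sum_mul]
      refine Finset.sum_congr rfl fun a _ => ?_
      by_cases ha : IsConj x a
      · obtain ⟨c, rfl⟩ := isConj_iff.1 ha
        rw [IsIrr.isClassFunction χ.2 x c]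
      · rw [classSum, coeff_ofFun, if_neg ha, zero_mul, zero_mul]
    have hlhs : chiLin (χ : G → ℂ) (classSum x * single t 1) = s * (χ : G → ℂ) t := by
      rw [chiLin, hs, Finset.sum_mul]
      refine Fintype.sum_equiv (Equiv.mulRight t⁻¹) _ _ fun a => ?_
      rw [coeff_mul_single_apply, mul_one, Equiv.coe_mulRight]
      by_cases ha : IsConj x (a * t⁻¹)
      · obtain ⟨c, hc⟩ := isConj_iff.1 ha
        rw [← hconst χ hχ c, hc, IsIrr.isClassFunction χ.2 a t |>.symm]
        congr 2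
        group
      · rw [classSum, coeff_ofFun, if_neg ha, zero_mul, zero_mul]
    rw [chiLin_central_mul χ.2 (isCentralElt_classSum x), omega, hclx, chiLin_single, one_mul] at hlhs
    by_contra htne
    have hx1 : (χ : G → ℂ) x = (χ : G → ℂ) 1 := by
      field_simp at hlhs
      exact hlhs
    apply hχt
    obtain ⟨n, ρ, hρ, he⟩ := χ.2
    obtain ⟨N, hN, hmem, -⟩ := IsChar.exists_kernel (χ := (χ : G → ℂ)) ⟨n, ρ, he⟩
    have htop : N = ⊤ := by
      refine eq_top_iff.2 (S.top ▸ sSup_le fun B hB => ?_)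
      obtain ⟨h, -, rfl⟩ := S.exists_conj_mem S.memA hB (le_top : A ≤ ⊤) le_top
      rintro _ ⟨a, ha, rfl⟩
      rw [SetLike.mem_coe, ← S.zpowers_eq S.memA S.memx S.xne] at ha
      obtain ⟨i, rfl⟩ := Subgroup.mem_zpowers_iff.1 ha
      exact hN.conj_mem _ (zpow_mem ((hmem x).2 hx1) i) h
    have hc : ∀ g, (χ : G → ℂ) g = (χ : G → ℂ) 1 := fun g =>
      (hmem g).1 (htop ▸ Subgroup.mem_top g)
    by_contra hne2
    have hin := classInner_irrCharacter χ trivialIrr
    rw [if_neg hne2, classInner_def] at hin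
    have : ∑ g : G, (χ : G → ℂ) g * (starRingEnd ℂ) ((trivialIrr (G := G) : G → ℂ) g) =
        (Nat.card G : ℂ) * (χ : G → ℂ) 1 := by
      simp [trivialIrr, hc, Finset.sum_const, Nat.card_eq_fintype_card]
    rw [this, ← mul_assoc, inv_mul_cancel₀ (Nat.cast_ne_zero.2 Nat.card_pos.ne'), one_mul] at hin
    exact h0 hin
  have horth : ∑ χ : IrrCharacter G, (if χ ∈ principalBlock M G then
      (χ : G → ℂ) 1 * (starRingEnd ℂ) ((χ : G → ℂ) t) else 0) = 0 := by
    rw [← finsum_mem_eq_sum_ite]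
    exact blockKernel_eq_zero_of_regular_of_singular (p := 2) hM (isPBlock_principalBlock M)
      (g := 1) (h := t) (by rw [orderOf_one]; omega) (by rw [S.invol])
  rw [Finset.sum_eq_single (trivialIrr (G := G))] at horth
  · rw [if_pos (show trivialIrr ∈ principalBlock M G from sameBlock_refl hM _)] at horth
    norm_num [trivialIrr] at horth
  · intro χ _ hne2
    split_ifs with h
    · rw [hrel χ h hne2, map_zero, mul_zero]
    · rfl
  · simp

end Setup

end Cfsg.Agent.H73.PairGen
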