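import Cfsg.Agent.H73.PairGen.Basic
import Cfsg.Agent.H73.PairGen.Displace

/-!
# The prime of the derived groups of the pairs
-/

set_option linter.style.haveILetI false
set_option linter.unusedSectionVars false

namespace Cfsg.Agent.H73.PairGen

open scoped commutatorElement

universe u

variable {G : Type u} [Group G] {p : ℕ} {D : Set (Subgroup G)}

/-- All derived groups of pairs are `q`-groups, `q` an odd prime. -/
structure QHyp (q : ℕ) (p : ℕ) (D : Set (Subgroup G)) : Prop extends Hyp p D where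
  qprime : q.Prime
  qne_two : q ≠ 2
  qgroup : ∀ A ∈ D, ∀ B ∈ D, A ≠ B → IsPGroup q ↥⁅A ⊔ B, A ⊔ B⁆

theorem mem_commutator_subgroup {H : Subgroup G} {u : G} :
    u ∈ ⁅H, H⁆ ↔ ∃ w : H, w ∈ commutator H ∧ (w : G) = u := by
  rw [← map_subtype_commutator]; rfl

theorem mem_commutator_equiv {H K : Type*} [Group H] [Group K] (e : H ≃* K) {w : K}
    (hw : w ∈ commutator K) : e.symm w ∈ commutator H := by
  have h : (commutator K).map e.symm.toMonoidHom = commutator H := by
    rw [commutator_def, Subgroup.map_commutator,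
      Subgroup.map_top_of_surjective _ e.symm.surjective, ← commutator_def]
  exact h ▸ Subgroup.mem_map_of_mem _ hw

theorem isPGroup_commutator_iff {H : Subgroup G} {q : ℕ} :
    IsPGroup q (commutator H) ↔ IsPGroup q ↥⁅H, H⁆ := by
  constructor
  · rintro h ⟨u, hu⟩
    obtain ⟨w, hw, rfl⟩ := mem_commutator_subgroup.1 hu
    obtain ⟨k, hk⟩ := h ⟨w, hw⟩
    refine ⟨k, Subtype.ext ?_⟩
    simpa using congrArg (fun z : commutator H => ((z : H) : G)) hk
  · rintro h ⟨w, hw⟩
    obtain ⟨k, hk⟩ := h ⟨(w : G), mem_commutator_subgroup.2 ⟨w, hw, rfl⟩⟩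
    refine ⟨k, Subtype.ext (Subtype.ext ?_)⟩
    simpa using congrArg Subtype.val hk

namespace Hyp

variable (hyp : Hyp p D)
include hyp

theorem normalClosure_gen [Finite G] {A H : Subgroup G} (hH : Gen D H) (hA : A ∈ D) (hAH : A ≤ H)
    {x : G} (hx : x ∈ A) (hx1 : x ≠ 1) :
    Subgroup.normalClosure {(⟨x, hAH hx⟩ : H)} = ⊤ := by
  set K := Subgroup.normalClosure {(⟨x, hAH hx⟩ : H)}
  refine Subgroup.map_injective H.subtype_injective ?_
  rw [← MonoidHom.range_eq_map, Subgroup.range_subtype]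
  refine le_antisymm (Subgroup.map_subtype_le _) (hH.le_of fun B hB hBH => ?_)
  obtain ⟨h, hh, rfl⟩ := hyp.exists_conj_mem hA hB hAH hBH
  intro b hb
  rw [mem_cj] at hb
  rw [← hyp.zpowers_eq hA hx hx1] at hb
  obtain ⟨k, hk⟩ := Subgroup.mem_zpowers_iff.1 hb
  have hxK : (⟨x, hAH hx⟩ : H) ∈ K := Subgroup.subset_normalClosure rfl
  refine ⟨(⟨h, hh⟩ : H) * (⟨x, hAH hx⟩ : H) ^ k * (⟨h, hh⟩ : H)⁻¹,
    Subgroup.normalClosure_normal.conj_mem _ (zpow_mem hxK k) _, ?_⟩
  rw [map_mul, map_mul, map_inv, map_zpow]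
  show h * x ^ k * h⁻¹ = b
  rw [hk]; group

theorem exists_q [Finite G] : ∃ q, QHyp q p D := by
  obtain ⟨A, hA, B, hB, hAB, -⟩ := hyp.exists_noncomm
  set L := A ⊔ B with hL
  obtain ⟨x, hx, hx1, hxA⟩ := hyp.exists_gen hA
  have hsol := hyp.solvable_pair hA hB hAB
  have hgen : Gen D L := gen_pair hA hB
  have hxL := hyp.normalClosure_gen hgen hA le_sup_left hx hx1
  have hmove : ∀ y ∈ ⁅L, L⁆, cj y A = A → Commute y x := by
    intro y hy h
    have h1 : y * x * y⁻¹ * x⁻¹ ∈ A := mul_mem (h ▸ conj_mem_cj hx) (inv_mem hx)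
    have h2 : y * x * y⁻¹ * x⁻¹ ∈ ⁅L, L⁆ := by
      rw [show y * x * y⁻¹ * x⁻¹ = ⁅y, x⁆ from (commutatorElement_def y x).symm]
      exact Subgroup.commutator_mem_commutator (commutator_self_le L hy) (Subgroup.mem_sup_left hx)
    exact commutatorElement_eq_one_iff_commute.1 (hyp.pair_inf hA hB hAB h1 h2)
  have hnc : ¬ commutator L ≤ Subgroup.centralizer ({⟨x, Subgroup.mem_sup_left hx⟩} : Set L) := by
    intro hc
    -- then the derived group is central and two conjugates of `x` commute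
    have hcen : commutator L ≤ Subgroup.center L := fun z hz =>
      mem_center_of_forall_conj hxL fun g => Subgroup.mem_centralizer_singleton_iff.1
        (hc (by simpa using (inferInstance : (commutator L).Normal).conj_mem z hz g⁻¹))
    obtain ⟨b, hb, hb1, -⟩ := hyp.exists_gen hB
    have hne : cj b A ≠ A := hyp.cj_ne hB hA (Ne.symm hAB) hb hb1
    refine hyp.not_commute (hyp.conj A hA b) hA hne (conj_mem_cj hx)
      (fun h => hx1 (by simpa using h)) hx hx1 ?_
    set x' : L := ⟨x, Subgroup.mem_sup_left hx⟩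
    set b' : L := ⟨b, Subgroup.mem_sup_right hb⟩
    have hz : b' * x' * b'⁻¹ * x'⁻¹ ∈ Subgroup.center L := hcen (by
      rw [← commutatorElement_def, commutator_def]
      exact Subgroup.commutator_mem_commutator (Subgroup.mem_top _) (Subgroup.mem_top _))
    have h2 : Commute (b' * x' * b'⁻¹) x' := by
      have := Commute.mul_left (Subgroup.mem_center_iff.1 hz x').symm (Commute.refl x')
      rwa [inv_mul_cancel_right] at this
    exact congrArg Subtype.val h2.eq
  obtain ⟨r, hr, Q, hQn, hQp, hQle, hQnc⟩ := exists_normal_moved hsol hxL hnc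
  obtain ⟨y, hyQ, hyc⟩ := SetLike.not_le_iff_exists.1 hQnc
  set Q' := Q.map L.subtype with hQ'
  have hQ'le : Q' ≤ ⁅L, L⁆ := by rw [← map_subtype_commutator]; exact Subgroup.map_mono hQle
  have hyne : cj (y : G) A ≠ A := fun h => hyc (Subgroup.mem_centralizer_singleton_iff.2
    (Subtype.ext (hmove _ (hQ'le (Subgroup.mem_map_of_mem _ hyQ)) h).eq))
  have hAn : A ≤ Subgroup.normalizer (Q' : Set G) := by
    intro a ha
    rw [← cj_eq_self_iff]
    refine Subgroup.eq_of_le_of_card_ge ?_ (card_cj a Q').ge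
    rintro _ ⟨_, ⟨w, hw, rfl⟩, rfl⟩
    exact ⟨(⟨a, Subgroup.mem_sup_left ha⟩ : L) * w * (⟨a, Subgroup.mem_sup_left ha⟩ : L)⁻¹,
      hQn.conj_mem w hw _, rfl⟩
  have hsup : L ≤ A ⊔ Q' := by
    rw [hL, ← hyp.line hA hB hA (hyp.conj A hA (y : G)) hAB (Ne.symm hyne) le_sup_left
      (cj_le_of_mem le_sup_left y.2)]
    refine sup_le le_sup_left ?_
    rintro _ ⟨a, ha, rfl⟩
    rw [SetLike.mem_coe] at ha
    show (y : G) * a * (y : G)⁻¹ ∈ A ⊔ Q'
    have hy' : (y : G) ∈ A ⊔ Q' := Subgroup.mem_sup_right (Subgroup.mem_map_of_mem _ hyQ)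
    exact mul_mem (mul_mem hy' (Subgroup.mem_sup_left ha)) (inv_mem hy')
  have hLQ : ⁅L, L⁆ ≤ Q' := le_trans (Subgroup.commutator_mono hsup hsup)
    (commutator_sup_le (fun a ha b hb => hyp.comm_in hA ha hb) hAn)
  have hLr : IsPGroup r ↥⁅L, L⁆ := (hQp.map L.subtype).to_le hLQ
  haveI := Fact.mk hr
  refine ⟨r, hyp, hr, ?_, ?_⟩
  · rintro rfl
    have hne1 : (y : G) ≠ 1 := fun h => hyne (by rw [h, cj_one])
    obtain ⟨k, hk⟩ := IsPGroup.iff_orderOf.1 hLr ⟨_, hQ'le (Subgroup.mem_map_of_mem _ hyQ)⟩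
    rw [Subgroup.orderOf_mk] at hk
    have hodd := odd_orderOf_of_mem (hyp.odd A hA B hB hAB) y.2
    rw [show L.subtype y = (y : G) from rfl] at hk
    rw [hk] at hodd
    rcases k with _ | k
    · exact hne1 (orderOf_eq_one_iff.1 (by simpa using hk))
    · exact Nat.not_even_iff_odd.2 hodd (Nat.even_pow.2 ⟨even_two, k.succ_ne_zero⟩)
  · intro C hC E hE hCE
    obtain ⟨e⟩ := hyp.iso A hA B hB C hC E hE hAB hCE
    rw [← isPGroup_commutator_iff]
    rintro ⟨w, hw⟩
    obtain ⟨k, hk⟩ := (isPGroup_commutator_iff.2 hLr) ⟨e.symm w, mem_commutator_equiv e hw⟩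
    refine ⟨k, Subtype.ext ?_⟩
    have h2 : (e.symm w) ^ r ^ k = 1 := by simpa using congrArg Subtype.val hk
    have h3 := congrArg e h2
    rw [map_pow, map_one, MulEquiv.apply_symm_apply] at h3
    simpa using h3

end Hyp

end Cfsg.Agent.H73.PairGen
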